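import Cfsg.Agent.RecogSeven.Dihedral
import Cfsg.Prelude.Def_CaseTheorems

/-!
A two-local subgroup isomorphic to the symmetric group of degree four.
-/

set_option autoImplicit false
set_option linter.unusedSectionVars false

namespace CfsgLib.RecogSeven

open Subgroup Equiv

/-- Membership in the four-group of the symmetric group of degree four. -/
abbrev Kl (u : Perm (Fin 4)) : Prop := u * u = 1 ∧ Equiv.Perm.sign u = 1

/-- Two double transpositions. -/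
def k₁ : Perm (Fin 4) := swap 0 1 * swap 2 3
/-- Two double transpositions. -/
def k₂ : Perm (Fin 4) := swap 0 2 * swap 1 3

theorem s4_twelve : ∀ t : Perm (Fin 4), t ^ 12 = 1 := by decide +kernel

theorem s4_hit : ∀ t : Perm (Fin 4), t ≠ 1 → t ^ 4 = 1 → ∃ g : Perm (Fin 4),
    (Kl t) ∨ (Kl (t * (g * t * g⁻¹)) ∧ t * (g * t * g⁻¹) ≠ 1) ∨
    ((t * (g * t * g⁻¹)) ^ 3 = 1 ∧ t * (g * t * g⁻¹) ≠ 1) := by decide +kernel

theorem s4_conj : ∀ u k : Perm (Fin 4), Kl u → u ≠ 1 → Kl k → k ≠ 1 → ∃ g : Perm (Fin 4), g * u * g⁻¹ = k := by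
  decide +kernel

theorem s4_out : ∀ t : Perm (Fin 4), t ^ 4 = 1 → ¬ Kl t → ∃ g k : Perm (Fin 4),
    Kl k ∧ (t * (g * t * g⁻¹) * k) ^ 3 = 1 ∧ t * (g * t * g⁻¹) * k ≠ 1 := by decide +kernel

theorem s4_cent : ∀ c : Perm (Fin 4), c * k₁ = k₁ * c → c * k₂ = k₂ * c →
    c = 1 ∨ c = k₁ ∨ c = k₂ ∨ c = k₁ * k₂ := by decide +kernel

theorem s4_kl : ∀ c : Perm (Fin 4), Kl c → c = 1 ∨ c = k₁ ∨ c = k₂ ∨ c = k₁ * k₂ := by decide +kernel

theorem s4_kfacts : Kl k₁ ∧ Kl k₂ ∧ k₁ ≠ 1 ∧ k₂ ≠ 1 ∧ k₁ ≠ k₂ ∧ k₁ * k₂ = k₂ * k₁ := by decide +kernel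

/-- A nontrivial normal two-subgroup of the symmetric group of degree four is the four-group. -/
theorem s4_normal {T : Subgroup (Perm (Fin 4))} [T.Normal] (hT : IsPGroup 2 T) (hT1 : T ≠ ⊥)
    (u : Perm (Fin 4)) : u ∈ T ↔ Kl u := by
  have h4 : ∀ t ∈ T, t ^ 4 = 1 := fun t ht => by
    obtain ⟨n, hn⟩ := hT ⟨t, ht⟩
    have hn' : t ^ 2 ^ n = 1 := congrArg Subtype.val hn
    have hd : orderOf t ∣ Nat.gcd (2 ^ n) 12 :=
      Nat.dvd_gcd (orderOf_dvd_of_pow_eq_one hn') (orderOf_dvd_of_pow_eq_one (s4_twelve t))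
    refine orderOf_dvd_iff_pow_eq_one.1 (hd.trans ?_)
    exact (Nat.Coprime.dvd_of_dvd_mul_right (k := Nat.gcd (2 ^ n) 12) (n := 3) (m := 4)
      (Nat.Coprime.coprime_dvd_left (Nat.gcd_dvd_left _ _) (Nat.Coprime.pow_left n (by norm_num)))
      (Nat.gcd_dvd_right _ _))
  have hno : ∀ t ∈ T, t ^ 3 = 1 → t = 1 := fun t ht h3 => by
    have e : t ^ 4 = t ^ 3 * t := pow_succ t 3
    rw [h4 t ht, h3, one_mul] at e
    exact e.symm
  have hcj : ∀ t ∈ T, ∀ g : Perm (Fin 4), t * (g * t * g⁻¹) ∈ T := fun t ht g =>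
    mul_mem ht ((inferInstance : T.Normal).conj_mem t ht g)
  obtain ⟨t, ht, ht1⟩ := (T.bot_or_exists_ne_one).resolve_left hT1
  obtain ⟨v, hv, hv1, hvK⟩ : ∃ v ∈ T, v ≠ 1 ∧ Kl v := by
    obtain ⟨g, h | ⟨h, h'⟩ | ⟨h, h'⟩⟩ := s4_hit t ht1 (h4 t ht)
    · exact ⟨t, ht, ht1, h⟩
    · exact ⟨_, hcj t ht g, h', h⟩
    · exact absurd (hno _ (hcj t ht g) h) h'
  have hK : ∀ k : Perm (Fin 4), Kl k → k ∈ T := fun k hk => by
    by_cases hk1 : k = 1
    · rw [hk1]; exact one_mem T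
    · obtain ⟨g, rfl⟩ := s4_conj v k hvK hv1 hk hk1
      exact (inferInstance : T.Normal).conj_mem v hv g
  refine ⟨fun hu => ?_, hK u⟩
  by_contra hn
  obtain ⟨g, k, hk, h3, h3'⟩ := s4_out u (h4 u hu) hn
  exact h3' (hno _ (mul_mem (hcj u hu g) (hK k hk)) h3)

variable {G : Type*} [Group G] [Finite G] [IsSimpleGroup G]

theorem isSeven_of_local (h : Ords G) (hns : ¬ Group.IsSolvable G) (M : Subgroup G)
    (hM : Cfsg.IsTwoLocal M) (hS : Nonempty (M ≃* Perm (Fin 4))) : IsSeven G := by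
  obtain ⟨e⟩ := hS
  obtain ⟨T, hT2, hT1, rfl⟩ := hM
  set N := normalizer (T : Set G) with hN
  have hTN : T ≤ N := le_normalizer
  haveI : (T.subgroupOf N).Normal := normal_in_normalizer
  set T' : Subgroup (Perm (Fin 4)) := (T.subgroupOf N).map e.toMonoidHom with hT'
  haveI : T'.Normal := Subgroup.Normal.map inferInstance _ e.surjective
  have hT'2 : IsPGroup 2 T' := ((hT2.of_equiv (subgroupOfEquivOfLe hTN).symm)).map _
  have hT'1 : T' ≠ ⊥ := by
    rw [hT', Ne, map_eq_bot_iff_of_injective _ e.injective, subgroupOf_eq_bot]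
    exact fun hd => hT1 (le_bot_iff.1 (hd le_rfl hTN))
  have hmem : ∀ c : N, (c : G) ∈ T ↔ Kl (e c) := fun c => by
    rw [← s4_normal hT'2 hT'1]
    exact ⟨fun hc => ⟨c, mem_subgroupOf.2 hc, rfl⟩, fun ⟨d, hd, hde⟩ => by
      rw [← e.injective hde]; exact mem_subgroupOf.1 hd⟩
  obtain ⟨hk1, hk2, hk1', hk2', hkne, hkc⟩ := s4_kfacts
  set a : G := ((e.symm k₁ : N) : G) with ha
  set b : G := ((e.symm k₂ : N) : G) with hb
  have hord : ∀ k : Perm (Fin 4), Kl k → k ≠ 1 → orderOf ((e.symm k : N) : G) = 2 := fun k hk hk' => by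
    rw [orderOf_coe, MulEquiv.orderOf_eq]
    exact orderOf_eq_prime (hp := ⟨Nat.prime_two⟩) (by rw [pow_two]; exact hk.1) hk'
  refine isSeven_of_four h hns ?_ (a := a) (b := b) (hord _ hk1 hk1') (hord _ hk2 hk2')
    (fun he => hkne (e.symm.injective (Subtype.ext he))) ?_ fun c hca hcb => ?_
  · refine (show 8 ∣ 24 by norm_num).trans ?_
    have h24 : Nat.card N = 24 := by
      rw [Nat.card_congr e.toEquiv, Nat.card_perm, Nat.card_eq_fintype_card, Fintype.card_fin]; rfl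
    exact h24 ▸ card_subgroup_dvd_card N
  · show a * b = b * a
    rw [ha, hb, ← coe_mul, ← coe_mul, ← map_mul, ← map_mul, hkc]
  · have hcN : c ∈ N := by
      refine centralizer_le_normalizer _ (mem_centralizer_iff.2 fun t ht => ?_)
      have hK := (hmem ⟨t, hTN ht⟩).1 ht
      have ht' : ((e.symm (e ⟨t, hTN ht⟩) : N) : G) = t := by rw [MulEquiv.symm_apply_apply]
      rcases s4_kl _ hK with hh | hh | hh | hh <;> rw [hh] at ht'
      · rw [map_one, coe_one] at ht'; rw [← ht', one_mul, mul_one]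
      · rw [← ht']; exact hca.eq.symm
      · rw [← ht']; exact hcb.eq.symm
      · rw [map_mul, coe_mul] at ht'; rw [← ht']; exact (hca.mul_right hcb).eq.symm
    have h1 : e ⟨c, hcN⟩ * k₁ = k₁ * e ⟨c, hcN⟩ := by
      conv_lhs => rw [← e.apply_symm_apply k₁, ← map_mul]
      conv_rhs => rw [← e.apply_symm_apply k₁, ← map_mul]
      exact congrArg e (Subtype.ext hca.eq)
    have h2 : e ⟨c, hcN⟩ * k₂ = k₂ * e ⟨c, hcN⟩ := by
      conv_lhs => rw [← e.apply_symm_apply k₂, ← map_mul]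
      conv_rhs => rw [← e.apply_symm_apply k₂, ← map_mul]
      exact congrArg e (Subtype.ext hcb.eq)
    have hc' : ((e.symm (e ⟨c, hcN⟩) : N) : G) = c := by rw [MulEquiv.symm_apply_apply]
    rcases s4_cent _ h1 h2 with hh | hh | hh | hh <;> rw [hh] at hc'
    · rw [map_one, coe_one] at hc'; exact Or.inl hc'.symm
    · exact Or.inr (Or.inl hc'.symm)
    · exact Or.inr (Or.inr (Or.inl hc'.symm))
    · rw [map_mul, coe_mul] at hc'; exact Or.inr (Or.inr (Or.inr hc'.symm))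

end CfsgLib.RecogSeven
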