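import Cfsg.Agent.FGSB.EPPO
import Cfsg.Agent.S3331
import Cfsg.Agent.S0495
import Cfsg.Agent.Classical.SmallPSL
import Cfsg.Agent.BlocksB.OddCentralizer
import Cfsg.Prelude.Def_LieExceptional
import Mathlib.GroupTheory.SpecificGroups.Alternating
import Mathlib.GroupTheory.SpecificGroups.KleinFour

/-!
Finite groups in which every element order is a power of two or a prime other than five.
-/

set_option autoImplicit false
set_option linter.unusedSectionVars false

namespace CfsgLib.RecogSeven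

open Subgroup

universe u

/-- Every element order is a power of two or a prime other than five. -/
def Ords (G : Type*) [Group G] : Prop :=
  ∀ g : G, g ≠ 1 → (∃ k : ℕ, orderOf g = 2 ^ k) ∨ ((orderOf g).Prime ∧ orderOf g ≠ 5)

variable {G : Type u} [Group G]

theorem Ords.subgroup (h : Ords G) (H : Subgroup G) : Ords H := fun x hx => by
  rw [← Subgroup.orderOf_coe]
  exact h x fun e => hx (Subtype.ext e)

theorem Ords.of_equiv {G' : Type*} [Group G'] (e : G ≃* G') (h : Ords G) : Ords G' := fun x hx => by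
  have := h (e.symm x) fun e' => hx (by simpa using congrArg e e')
  rwa [MulEquiv.orderOf_eq] at this

variable [Finite G]

theorem Ords.quotient (h : Ords G) (N : Subgroup G) [N.Normal] : Ords (G ⧸ N) := fun x hx => by
  obtain ⟨g, rfl⟩ := QuotientGroup.mk'_surjective N x
  have hd := orderOf_map_dvd (QuotientGroup.mk' N) g
  rcases h g (fun e => hx (by rw [e, map_one])) with ⟨k, hk⟩ | ⟨hp, h5⟩
  · rw [hk, Nat.dvd_prime_pow Nat.prime_two] at hd
    obtain ⟨i, -, hi⟩ := hd
    exact Or.inl ⟨i, hi⟩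
  · rcases (Nat.dvd_prime hp).1 hd with e | e
    · exact absurd (orderOf_eq_one_iff.1 e) hx
    · rw [e]; exact Or.inr ⟨hp, h5⟩

theorem Ords.isPrimePow (h : Ords G) (g : G) (hg : g ≠ 1) : IsPrimePow (orderOf g) := by
  rcases h g hg with ⟨k, hk⟩ | ⟨hp, -⟩
  · rw [hk]
    exact Nat.prime_two.isPrimePow.pow fun e => hg (orderOf_eq_one_iff.1 (by rw [hk, e, pow_zero]))
  · exact hp.isPrimePow

theorem Ords.not_five (h : Ords G) : ¬ 5 ∣ Nat.card G := by
  intro h5
  haveI : Fact (Nat.Prime 5) := ⟨by norm_num⟩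
  obtain ⟨x, hx⟩ := exists_prime_orderOf_dvd_card' 5 h5
  rcases h x (fun e => by rw [e, orderOf_one] at hx; omega) with ⟨k, hk⟩ | ⟨-, hne⟩
  · rw [hx] at hk
    have := (Nat.prime_five.dvd_of_dvd_pow (dvd_of_eq hk))
    omega
  · exact hne hx

theorem Ords.no_commute (h : Ords G) {x y : G} (hc : Commute x y)
    (hco : (orderOf x).Coprime (orderOf y)) : x = 1 ∨ y = 1 := by
  by_contra hne
  push Not at hne
  have h1 : orderOf x ≠ 1 := fun e => hne.1 (orderOf_eq_one_iff.1 e)
  have h2 : orderOf y ≠ 1 := fun e => hne.2 (orderOf_eq_one_iff.1 e)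
  have hxy := hc.orderOf_mul_eq_mul_orderOf_of_coprime hco
  have hm : x * y ≠ 1 := fun e => h1 (Nat.eq_one_of_mul_eq_one_right (by rw [← hxy, e, orderOf_one]))
  have hp := h.isPrimePow _ hm
  rw [hxy] at hp
  rcases (Nat.Coprime.isPrimePow_dvd_mul hco hp).1 dvd_rfl with e | e
  · exact h2 (Nat.eq_one_of_dvd_coprimes hco ((Dvd.intro_left _ rfl : orderOf y ∣ _).trans e) dvd_rfl)
  · exact h1 (Nat.eq_one_of_dvd_coprimes hco dvd_rfl ((Dvd.intro _ rfl : orderOf x ∣ _).trans e))

/-- The centralizer of an element of prime order is a group of prime power order. -/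
theorem Ords.isPGroup_of_commute (h : Ords G) {p : ℕ} (hp : p.Prime) {x : G}
    (hx : orderOf x = p) {H : Subgroup G} (hH : ∀ y ∈ H, Commute x y) : IsPGroup p H := by
  intro y
  by_cases hy : y = 1
  · exact ⟨0, by simp [hy]⟩
  obtain ⟨r, k, hr, hk, hk'⟩ := h.isPrimePow (y : G) (fun e => hy (Subtype.ext e))
  by_cases hrp : r = p
  · refine ⟨k, Subtype.ext ?_⟩
    rw [Subgroup.coe_pow, ← hrp, hk', pow_orderOf_eq_one, Subgroup.coe_one]
  · exfalso
    rcases h.no_commute (hH y y.2) (by
      rw [hx, ← hk']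
      exact Nat.Coprime.pow_right k ((Nat.coprime_primes hp hr.nat_prime).2 (Ne.symm hrp))) with e | e
    · rw [e, orderOf_one] at hx; exact hp.ne_one hx.symm
    · exact hy (Subtype.ext e)

theorem Ords.centralizer_isPGroup (h : Ords G) {p : ℕ} (hp : p.Prime) {x : G} (hx : orderOf x = p) :
    IsPGroup p (centralizer ({x} : Set G)) :=
  h.isPGroup_of_commute hp hx fun _ hy => (mem_centralizer_singleton_iff.1 hy).symm

/-- Commuting nontrivial elements of prime order have the same order. -/
theorem Ords.eq_one_of_commute (h : Ords G) {p : ℕ} (hp : p.Prime) {x y : G} (hx : orderOf x = p)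
    (hc : Commute x y) (hy : (orderOf y).Coprime p) : y = 1 :=
  (h.no_commute hc (by rw [hx]; exact hy.symm)).resolve_left
    fun e => by rw [e, orderOf_one] at hx; exact hp.ne_one hx.symm

theorem Ords.pow_prime (h : Ords G) {p : ℕ} (hp : p.Prime) (hp2 : p ≠ 2) {g : G}
    (hg : ∃ k, g ^ p ^ k = 1) : g ^ p = 1 := by
  by_cases hg1 : g = 1
  · rw [hg1, one_pow]
  obtain ⟨k, hk⟩ := hg
  obtain ⟨i, -, hi⟩ := (Nat.dvd_prime_pow hp).1 (orderOf_dvd_of_pow_eq_one hk)
  rcases h g hg1 with ⟨j, hj⟩ | ⟨hpr, -⟩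
  · exfalso
    rcases Nat.eq_zero_or_pos i with rfl | hi0
    · rw [pow_zero] at hi; exact hg1 (orderOf_eq_one_iff.1 hi)
    · rw [hi] at hj
      exact hp2 ((Nat.prime_dvd_prime_iff_eq hp Nat.prime_two).1
        (hp.dvd_of_dvd_pow (hj ▸ dvd_pow_self p hi0.ne')))
  · rw [hi] at hpr
    have h1 : orderOf g = p := by rw [hi, Nat.Prime.eq_one_of_pow hpr, pow_one]
    rw [← h1, pow_orderOf_eq_one]

theorem Ords.isCNGroup (h : Ords G) : Cfsg.IsCNGroup G := by
  intro g hg
  obtain ⟨p, hp, hpd⟩ := Nat.exists_prime_and_dvd (fun e => hg (orderOf_eq_one_iff.1 e))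
  haveI := Fact.mk hp
  set x := g ^ (orderOf g / p) with hx
  have hxo : orderOf x = p := orderOf_pow_orderOf_div (orderOf_pos g).ne' hpd
  have hP := h.isPGroup_of_commute hp hxo (H := centralizer ({g} : Set G))
    fun y hy => Commute.pow_left (mem_centralizer_singleton_iff.1 hy).symm _
  exact IsPGroup.isNilpotent (p := p) hP

theorem Ords.card_le_two (h : Ords G) [Group.IsSolvable G] : (Nat.card G).primeFactors.card ≤ 2 :=
  CfsgLib.OddLocal.card_primeFactors_le_two G fun g => by
    by_cases hg : g = 1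
    · exact Or.inr hg
    · exact Or.inl (h.isPrimePow g hg)

theorem Ords.not_solvable (h : Ords G) (h3 : 3 ≤ (Nat.card G).primeFactors.card) :
    ¬ Group.IsSolvable G := fun hs => by
  haveI := hs
  have := h.card_le_two
  omega

/-- The conclusion. -/
def IsSeven (G : Type*) [Group G] : Prop := IsSimpleGroup G ∧ Nat.card G = 168

theorem IsSeven.of_equiv {G' : Type*} [Group G'] (e : G ≃* G') (h : IsSeven G) : IsSeven G' :=
  ⟨by haveI := h.1; exact MulEquiv.isSimpleGroup e.symm, (Nat.card_congr e.toEquiv).symm.trans h.2⟩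

theorem IsSeven.not_solvable (h : IsSeven G) : ¬ Group.IsSolvable G := fun hs => by
  haveI := h.1
  have hc := fun a b => IsSimpleGroup.comm_iff_isSolvable.2 hs a b
  letI : CommGroup G := { ‹Group G› with mul_comm := hc }
  have := IsSimpleGroup.prime_card (α := G)
  rw [h.2] at this
  norm_num at this

/-- The group `PSL₂(7)` is simple of order `168`. -/
theorem isSeven_psl : IsSeven (Matrix.ProjectiveSpecialLinearGroup (Fin 2) (ZMod 7)) := by
  have e0 : (2 : ZMod 7) ≠ 0 := by decide +kernel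
  have e1 : (2 : ZMod 7) ^ 2 ≠ 1 := by decide +kernel
  haveI : Fact (Nat.Prime 7) := ⟨by norm_num⟩
  refine ⟨CfsgLib.Linear.isSimpleGroup_PSL (Or.inr ⟨2, e0, e1⟩), ?_⟩
  have h := CfsgLib.Linear.Small.card_psl_two (F := ZMod 7) (q := 7) (ZMod.card 7)
  rw [show Nat.gcd 2 (7 - 1) = 2 by decide] at h
  omega

/-- A nonsolvable group with Sylow three-subgroup of order three is the simple group of order `168`. -/
theorem isSeven_of_three (h : Ords G) (hns : ¬ Group.IsSolvable G) (h3 : 3 ∣ Nat.card G)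
    (h9 : ¬ 9 ∣ Nat.card G) : IsSeven G := by
  haveI : Fact (Nat.Prime 3) := ⟨Nat.prime_three⟩
  obtain ⟨x, hx⟩ := exists_prime_orderOf_dvd_card' 3 h3
  set X := zpowers x with hX
  have hXc : Nat.card X = 3 := by rw [hX, Nat.card_zpowers, hx]
  have hC : centralizer (X : Set G) = X := by
    have hle : X ≤ centralizer (X : Set G) := by
      rw [hX, centralizer_eq_iInf, le_iInf₂_iff]
      intro y hy
      rw [zpowers_le, mem_centralizer_singleton_iff]
      obtain ⟨i, rfl⟩ := mem_zpowers_iff.1 hy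
      exact (Commute.self_zpow x i).eq
    refine (eq_of_le_of_card_ge hle ?_).symm
    have hp := h.isPGroup_of_commute Nat.prime_three hx (H := centralizer (X : Set G))
      fun y hy => mem_centralizer_iff.1 hy x (mem_zpowers x)
    obtain ⟨n, hn⟩ := hp.exists_card_eq
    have hd : 3 ^ n ∣ Nat.card G := hn ▸ card_subgroup_dvd_card _
    rw [hn, hXc]
    rcases Nat.lt_or_ge n 2 with hn2 | hn2
    · interval_cases n <;> norm_num
    · exact absurd ((show (9 : ℕ) = 3 ^ 2 by norm_num) ▸ (pow_dvd_pow 3 hn2).trans hd) h9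
  rcases Cfsg.Agent.S3331.result X hXc hC with ⟨N, hN, hnil, -, hq⟩ | ⟨N, hN, hcm, -, ⟨e⟩⟩ | e
  · exfalso
    refine hns ?_
    haveI := hnil
    haveI : Group.IsSolvable (G ⧸ N) := by
      rcases hq with h3' | ⟨⟨e⟩⟩
      · haveI := isCyclic_of_prime_card h3'
        exact Group.isSolvable_of_comm fun a b => IsCyclic.commutative.is_comm.comm a b
      · haveI : Group.IsSolvable (Equiv.Perm (Fin 3)) := by
          refine CfsgLib.Char.isSolvable_of_card_eq 2 3 1 1 Nat.prime_two Nat.prime_three ?_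
          rw [Nat.card_perm, Nat.card_eq_fintype_card, Fintype.card_fin]
          rfl
        exact Group.isSolvable_of_surjective (f := e.symm.toMonoidHom) e.symm.surjective
    exact Group.isSolvable_of_ker_le_range N.subtype (QuotientGroup.mk' N) (by simp)
  · exfalso
    refine h.not_five ?_
    rw [card_eq_card_quotient_mul_card_subgroup N, Nat.card_congr e.toEquiv, nat_card_alternatingGroup,
      Nat.card_eq_fintype_card, Fintype.card_fin]
    exact Dvd.dvd.mul_right (by norm_num [Nat.factorial]) _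
  · exact isSeven_psl.of_equiv e.some.symm

/-- An involution without fixed points on `Q` inverts it. -/
theorem Ords.inverts (h : Ords G) {u : G} (hu : orderOf u = 2) {p : ℕ} (hp : p.Prime) (hp2 : p ≠ 2)
    {Q : Subgroup G} (hQ : IsPGroup p Q) (hn : u ∈ normalizer (Q : Set G)) :
    ∀ a ∈ Q, u * a * u⁻¹ = a⁻¹ := by
  refine CfsgLib.BlocksB.inverts_of_fixedPointFree (by rw [← pow_two, ← hu, pow_orderOf_eq_one]) hn
    fun a ha hc => h.eq_one_of_commute Nat.prime_two hu hc ?_
  obtain ⟨k, hk⟩ := hQ ⟨a, ha⟩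
  exact Nat.Coprime.coprime_dvd_left (orderOf_dvd_of_pow_eq_one (congrArg Subtype.val hk))
    (Nat.Coprime.pow_left k ((Nat.coprime_primes hp Nat.prime_two).2 hp2))

end CfsgLib.RecogSeven
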