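import Cfsg.Agent.RecogSeven.Basic
import Cfsg.Agent.SpecFive.Local
import Cfsg.Agent.OddLocal.CNMinimal
import Cfsg.Prelude.Def_Solvable

/-!
Solvable groups of the kind considered, in which a normal two-subgroup contains every involution.
-/

set_option autoImplicit false
set_option linter.unusedSectionVars false

namespace CfsgLib.RecogSeven

open Subgroup

universe u

variable {K : Type u} [Group K] [Finite K]

/-- A solvable group with two commuting involutions has a nontrivial normal two-subgroup. -/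
theorem exists_two_normal [Group.IsSolvable K] (h : Ords K) {a b : K} (ha : orderOf a = 2)
    (hb : orderOf b = 2) (hab : a ≠ b) (hc : Commute a b) :
    ∃ A : Subgroup K, A.Normal ∧ IsPGroup 2 A ∧ A ≠ ⊥ := by
  haveI : Nontrivial K := ⟨a, 1, fun e => by rw [e, orderOf_one] at ha; omega⟩
  obtain ⟨r, A, hr, hAn, hA1, hAr⟩ := CfsgLib.SpecFive.exists_normal_prime_exp (G := K)
  haveI := hAn
  by_cases hr2 : r = 2
  · exact ⟨A, hAn, hr2 ▸ hAr, hA1⟩
  exfalso
  have hN : normalizer (A : Set K) = ⊤ := normalizer_eq_top_iff.2 hAn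
  have hab2 : orderOf (a * b) = 2 := by
    refine orderOf_eq_prime (hp := ⟨Nat.prime_two⟩) ?_ fun e => hab ((mul_eq_one_iff_eq_inv.1 e).trans
      (inv_eq_of_mul_eq_one_right (by rw [← pow_two, ← hb, pow_orderOf_eq_one])))
    rw [hc.mul_pow, ← ha, pow_orderOf_eq_one, one_mul, ha, ← hb, pow_orderOf_eq_one]
  obtain ⟨x, hx, hx1⟩ := (A.bot_or_exists_ne_one).resolve_left hA1
  have hinv := fun u (hu : orderOf u = 2) => h.inverts hu hr hr2 hAr (hN ▸ mem_top u)
  refine hx1 (h.eq_one_of_commute Nat.prime_two hab2 ?_ ?_)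
  · show a * b * x = x * (a * b)
    have e : a * b * x * (a * b)⁻¹ = x := by
      calc a * b * x * (a * b)⁻¹ = a * (b * x * b⁻¹) * a⁻¹ := by group
        _ = (a * x * a⁻¹)⁻¹ := by rw [hinv b hb x hx]; group
        _ = x := by rw [hinv a ha x hx, inv_inv]
    exact mul_inv_eq_iff_eq_mul.1 e
  · obtain ⟨k, hk⟩ := hAr ⟨x, hx⟩
    exact Nat.Coprime.coprime_dvd_left (orderOf_dvd_of_pow_eq_one (congrArg Subtype.val hk))
      (Nat.Coprime.pow_left k ((Nat.coprime_primes hr Nat.prime_two).2 hr2))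

variable {U : Subgroup K} [U.Normal]

/-- If `U` contains every involution, its index is odd. -/
theorem odd_index [Group.IsSolvable K] (h : Ords K) (hU : IsPGroup 2 U)
    (hmax : ∀ N : Subgroup K, N.Normal → IsPGroup 2 N → N ≤ U)
    (hinv : ∀ t : K, orderOf t = 2 → t ∈ U) : Odd U.index := by
  classical
  by_contra hev
  rw [Nat.not_odd_iff_even, even_iff_two_dvd] at hev
  haveI : Fact (Nat.Prime 2) := ⟨Nat.prime_two⟩
  haveI : Nontrivial (K ⧸ U) := Finite.one_lt_card_iff_nontrivial.1 (by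
    rw [← index_eq_card]
    have h0 : U.index ≠ 0 := index_ne_zero_of_finite
    obtain ⟨c, hc⟩ := hev
    omega)
  obtain ⟨r, A, hr, hAn, hA1, hAr⟩ := CfsgLib.SpecFive.exists_normal_prime_exp (G := K ⧸ U)
  haveI := hAn
  haveI := Fact.mk hr
  set R := A.comap (QuotientGroup.mk' U) with hR
  have hUR : U ≤ R := fun x hx => by
    rw [hR, mem_comap, show QuotientGroup.mk' U x = 1 from (QuotientGroup.eq_one_iff x).2 hx]
    exact one_mem A
  have hRA : R.map (QuotientGroup.mk' U) = A :=
    map_comap_eq_self_of_surjective (QuotientGroup.mk'_surjective U) A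
  have hr2 : r ≠ 2 := by
    intro e
    subst e
    haveI : R.Normal := hAn.comap _
    have hR2 : IsPGroup 2 R := hAr.comap_of_ker_isPGroup _ (by rw [QuotientGroup.ker_mk']; exact hU)
    refine hA1 (eq_bot_iff.2 ?_)
    rw [← hRA]
    rintro _ ⟨x, hx, rfl⟩
    exact (QuotientGroup.eq_one_iff x).2 (hmax R inferInstance hR2 hx)
  haveI : R.Normal := hAn.comap _
  obtain ⟨Q⟩ : Nonempty (Sylow r R) := inferInstance
  set Q' := (Q : Subgroup R).map R.subtype with hQ'
  have hQ'r : IsPGroup r Q' := Q.2.map _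
  have hQR : Q' ≤ R := map_subtype_le _
  have hfr : normalizer (Q' : Set K) ⊔ R = ⊤ := Sylow.normalizer_sup_eq_top Q
  -- `R = U Q'`
  have hcop : ∀ {x : K}, x ∈ U → x ∈ Q' → x = 1 := by
    intro x hxU hxQ
    exact disjoint_def.1 (IsPGroup.disjoint_of_coprime hU hQ'r (by
      exact (Nat.coprime_primes Nat.prime_two hr).2 (Ne.symm hr2))) hxU hxQ
  have hQ1 : Q' ≠ ⊥ := by
    intro e
    have hc : Nat.card Q' = 1 := by rw [e, card_bot]
    rw [hQ', card_map_of_injective R.subtype_injective, Q.card_eq_multiplicity] at hc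
    have hd : r ∣ Nat.card R := by
      obtain ⟨n, hn⟩ := hAr.exists_card_eq
      have hn0 : n ≠ 0 := fun e0 => hA1 (card_eq_one.1 (by rw [hn, e0, pow_zero]))
      have hAd : Nat.card A ∣ Nat.card R := by
        rw [← hRA]
        exact card_map_dvd _ _
      exact (hn ▸ dvd_pow_self r hn0 : r ∣ Nat.card A).trans hAd
    have := hr.factorization_pos_of_dvd Nat.card_pos.ne' hd
    exact absurd hc (one_lt_pow₀ hr.one_lt this.ne').ne'
  have hmapN : (normalizer (Q' : Set K)).map (QuotientGroup.mk' U) = ⊤ := by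
    have hRle : R ≤ normalizer (Q' : Set K) ⊔ U := by
      have h1 : Q'.map (QuotientGroup.mk' U) = A := by
        refine eq_of_le_of_card_ge (hRA ▸ map_mono hQR) ?_
        obtain ⟨n, hn⟩ := hAr.exists_card_eq
        have hd : r ^ n ∣ Nat.card Q' := by
          rw [hQ', card_map_of_injective R.subtype_injective]
          refine Sylow.pow_dvd_card_of_pow_dvd_card Q ?_
          rw [← hn, ← hRA]
          exact card_map_dvd _ _
        have hinj : Nat.card (Q'.map (QuotientGroup.mk' U)) = Nat.card Q' := by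
          refine (Nat.card_congr (Equiv.ofBijective
            (fun q : Q' => (⟨QuotientGroup.mk' U q, mem_map_of_mem _ q.2⟩ : Q'.map (QuotientGroup.mk' U)))
            ⟨fun q q' e => ?_, fun y => ?_⟩)).symm
          · have hm : (q : K)⁻¹ * q' ∈ U := QuotientGroup.eq.1 (congrArg Subtype.val e)
            exact Subtype.ext (inv_mul_eq_one.1 (hcop hm (mul_mem (inv_mem q.2) q'.2)))
          · obtain ⟨_, x, hx, rfl⟩ := y
            exact ⟨⟨x, hx⟩, rfl⟩
        rw [hinj, hn]
        exact Nat.le_of_dvd Nat.card_pos hd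
      intro x hx
      have hxA : QuotientGroup.mk' U x ∈ A := hx
      rw [← h1] at hxA
      obtain ⟨q, hq, hqe⟩ := hxA
      have hm : q⁻¹ * x ∈ U := QuotientGroup.eq.1 hqe
      rw [show x = q * (q⁻¹ * x) by group]
      exact mul_mem (le_sup_left (α := Subgroup K) (le_normalizer hq)) (mem_sup_right hm)
    have htop : normalizer (Q' : Set K) ⊔ U = ⊤ := top_le_iff.1 (hfr ▸ sup_le le_sup_left hRle)
    have := congrArg (Subgroup.map (QuotientGroup.mk' U)) htop
    rwa [Subgroup.map_sup, QuotientGroup.map_mk'_self, sup_bot_eq, map_top_of_surjective _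
      (QuotientGroup.mk'_surjective U)] at this
  have h2N : 2 ∣ Nat.card (normalizer (Q' : Set K)) := by
    refine hev.trans ?_
    rw [index_eq_card, ← card_top (G := K ⧸ U), ← hmapN]
    exact card_map_dvd _ _
  obtain ⟨v, hv⟩ := exists_prime_orderOf_dvd_card' 2 h2N
  rw [← orderOf_coe] at hv
  obtain ⟨q, hq, hq1⟩ := (Q'.bot_or_exists_ne_one).resolve_left hQ1
  have hvU := hinv _ hv
  have hm : (v : K) * q * (v : K)⁻¹ * q⁻¹ = 1 := by
    refine hcop ?_ (mul_mem ((mem_normalizer_iff.1 v.2 q).1 hq) (inv_mem hq))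
    rw [show (v : K) * q * (v : K)⁻¹ * q⁻¹ = v * (q * (v : K)⁻¹ * q⁻¹) by group]
    exact mul_mem hvU ((inferInstance : U.Normal).conj_mem _ (inv_mem hvU) q)
  refine hq1 (h.eq_one_of_commute Nat.prime_two hv (mul_inv_eq_iff_eq_mul.1 (mul_inv_eq_one.1 hm)) ?_)
  obtain ⟨k, hk⟩ := hQ'r ⟨q, hq⟩
  exact Nat.Coprime.coprime_dvd_left (orderOf_dvd_of_pow_eq_one (congrArg Subtype.val hk))
    (Nat.Coprime.pow_left k ((Nat.coprime_primes hr Nat.prime_two).2 hr2))

/-- The index of `U` is one or a prime. -/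
theorem index_one_or_prime [Group.IsSolvable K] (h : Ords K) (hU : IsPGroup 2 U) (hU1 : U ≠ ⊥)
    (hodd : Odd U.index) : U.index = 1 ∨ U.index.Prime := by
  classical
  rcases eq_or_ne U.index 1 with h1 | h1
  · exact Or.inl h1
  refine Or.inr ?_
  obtain ⟨q, hq, hqd⟩ := Nat.exists_prime_and_dvd h1
  haveI := Fact.mk hq
  haveI : Fact (Nat.Prime 2) := ⟨Nat.prime_two⟩
  have hq2 : q ≠ 2 := fun e => Nat.not_even_iff_odd.2 hodd (even_iff_two_dvd.2 (e ▸ hqd))
  have hcard := U.card_mul_index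
  obtain ⟨n, hn⟩ := hU.exists_card_eq
  have hn0 : n ≠ 0 := fun e => hU1 (card_eq_one.1 (by rw [hn, e, pow_zero]))
  -- only one odd prime
  have honly : ∀ r : ℕ, r.Prime → r ∣ U.index → r = q := by
    intro r hr hrd
    by_contra hrq
    have hr2 : r ≠ 2 := fun e => Nat.not_even_iff_odd.2 hodd (even_iff_two_dvd.2 (e ▸ hrd))
    have hsub : ({2, q, r} : Finset ℕ) ⊆ (Nat.card K).primeFactors := by
      intro x hx
      rw [Nat.mem_primeFactors]
      simp only [Finset.mem_insert, Finset.mem_singleton] at hx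
      rcases hx with rfl | rfl | rfl
      · exact ⟨Nat.prime_two, hcard ▸ (hn ▸ dvd_pow_self 2 hn0).mul_right _, Nat.card_pos.ne'⟩
      · exact ⟨hq, hcard ▸ hqd.mul_left _, Nat.card_pos.ne'⟩
      · exact ⟨hr, hcard ▸ hrd.mul_left _, Nat.card_pos.ne'⟩
    have h3 : ({2, q, r} : Finset ℕ).card = 3 := by
      simp [hq2.symm, hr2.symm, Ne.symm hrq]
    have := Finset.card_le_card hsub
    have := h.card_le_two
    omega
  -- the Sylow subgroup acts without fixed points
  obtain ⟨Q⟩ : Nonempty (Sylow q K) := inferInstance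
  haveI : Nontrivial U := (nontrivial_iff_ne_bot U).2 hU1
  have hle : (Q : Subgroup K) ≤ normalizer (U : Set K) := by
    rw [normalizer_eq_top_iff.2 (inferInstance : U.Normal)]; exact le_top
  have hQodd : Odd (Nat.card (Q : Subgroup K)) := by
    obtain ⟨m, hm⟩ := Q.2.exists_card_eq
    rw [hm]
    exact (hq.odd_of_ne_two hq2).pow
  haveI : IsCyclic (Q : Subgroup K) :=
    CfsgLib.CN.isCyclic_of_fpf (K := U) hQodd (h.subgroup _).isCNGroup
      (φ := (normalizerMonoidHom U).comp (inclusion hle)) fun e he l hl => by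
        have h1 : (e : K) * (l : K) * (e : K)⁻¹ = l := congrArg Subtype.val hl
        refine Subtype.ext ((h.no_commute (mul_inv_eq_iff_eq_mul.1 h1) ?_).resolve_left
          fun e1 => he (Subtype.ext e1))
        obtain ⟨i, hi⟩ := Q.2 e
        obtain ⟨j, hj⟩ := hU l
        exact Nat.Coprime.coprime_dvd_left (orderOf_dvd_of_pow_eq_one (congrArg Subtype.val hi))
          (Nat.Coprime.coprime_dvd_right (orderOf_dvd_of_pow_eq_one (congrArg Subtype.val hj))
            (Nat.Coprime.pow _ _ ((Nat.coprime_primes hq Nat.prime_two).2 hq2)))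
  have hQc : Nat.card (Q : Subgroup K) = q := by
    obtain ⟨g, hg⟩ := IsCyclic.exists_generator (α := (Q : Subgroup K))
    have hgo := orderOf_eq_card_of_forall_mem_zpowers hg
    obtain ⟨k, hk⟩ := Q.2 g
    have hg' : (g : K) ^ q = 1 := h.pow_prime hq hq2 ⟨k, congrArg Subtype.val hk⟩
    have hd : orderOf g ∣ q := orderOf_dvd_of_pow_eq_one (Subtype.ext hg')
    rw [hgo] at hd
    refine ((Nat.dvd_prime hq).1 hd).resolve_left fun e => ?_
    have := Sylow.pow_dvd_card_of_pow_dvd_card (n := 1) Q (by rw [pow_one]; exact hcard ▸ hqd.mul_left _)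
    rw [e, pow_one] at this
    exact hq.one_lt.ne' (Nat.dvd_one.1 this)
  obtain ⟨e, he⟩ : ∃ e, U.index = q ^ e :=
    ⟨_, Nat.eq_prime_pow_of_unique_prime_dvd index_ne_zero_of_finite fun {r} hr hrd => honly r hr hrd⟩
  have hd : q ^ e ∣ q := by
    have := Sylow.pow_dvd_card_of_pow_dvd_card (n := e) Q (he ▸ hcard ▸ dvd_mul_left _ _)
    rwa [hQc] at this
  rcases (Nat.dvd_prime hq).1 hd with h' | h'
  · exact absurd (he.trans h') h1
  · rw [he, h']; exact hq

end CfsgLib.RecogSeven
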