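import Cfsg.Agent.RecogSeven.Orders
import Cfsg.Agent.S0508
import Cfsg.Agent.S3224
import Cfsg.Agent.Invol.CentralizerPattern

/-!
Simple groups in which a four-group of a Sylow two-subgroup is self-centralizing.
-/

set_option autoImplicit false
set_option linter.unusedSectionVars false

namespace CfsgLib.RecogSeven

open Subgroup

variable {G : Type*} [Group G] [Finite G] [IsSimpleGroup G]

theorem oddCore_centralizer (h : Ords G) {t : G} (ht : orderOf t = 2) :
    Cfsg.oddCore (centralizer ({t} : Set G)) = ⊥ := by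
  refine sSup_eq_bot.2 fun N hN => ?_
  obtain ⟨-, hodd⟩ := hN
  rw [← card_eq_one]
  haveI : Fact (Nat.Prime 2) := ⟨Nat.prime_two⟩
  obtain ⟨n, hn⟩ := ((h.centralizer_isPGroup Nat.prime_two ht).to_subgroup N).exists_card_eq
  rw [hn] at hodd ⊢
  rcases Nat.eq_zero_or_pos n with rfl | hn0
  · rfl
  · have := (Nat.coprime_pow_left_iff hn0 _ _).1 hodd
    norm_num at this

theorem isSeven_of_dihedral (h : Ords G) (hns : ¬ Group.IsSolvable G) (S : Sylow 2 G) (n : ℕ) (hn : 2 ≤ n)
    (hS : Nonempty ((S : Subgroup G) ≃* DihedralGroup n)) : IsSeven G := by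
  haveI : Fact (Nat.Prime 2) := ⟨Nat.prime_two⟩
  obtain ⟨e⟩ := hS
  haveI : Nontrivial (S : Subgroup G) := by
    refine Finite.one_lt_card_iff_nontrivial.1 ?_
    rw [Nat.card_congr e.toEquiv, DihedralGroup.nat_card]
    omega
  haveI := S.2.center_nontrivial
  have hdvd : 2 ∣ Nat.card (center (S : Subgroup G)) := by
    obtain ⟨k, hk⟩ := (S.2.to_subgroup (center (S : Subgroup G))).exists_card_eq
    rw [hk]
    refine dvd_pow_self 2 fun e0 => ?_
    have := Finite.one_lt_card (α := center (S : Subgroup G))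
    rw [hk, e0] at this
    omega
  obtain ⟨z, hz⟩ := exists_prime_orderOf_dvd_card' 2 hdvd
  rw [← orderOf_coe, ← orderOf_coe] at hz
  obtain ⟨F, _, _, -, ⟨ψ⟩⟩ := Cfsg.Agent.S0508.result S n hn ⟨e⟩ ((z : (S : Subgroup G)) : G) hz
    (z : (S : Subgroup G)).2 (fun s hs => congrArg Subtype.val (mem_center_iff.1 z.2 ⟨s, hs⟩)) ⊥
    (by rw [oddCore_centralizer h hz, Subgroup.map_bot]) (fun hb => absurd rfl hb)
    (fun s _ hs => absurd (mem_centralizer_iff.2 fun y hy => by
      rw [SetLike.mem_coe, mem_bot] at hy; rw [hy, one_mul, mul_one]) hs)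
    (fun Y hY hY1 => absurd (le_bot_iff.1 hY) hY1)
  exact isSeven_of_psl h hns ψ

theorem no_index_two (hns : ¬ Group.IsSolvable G) (H : Subgroup G) : H.index ≠ 2 := by
  intro hi
  haveI := Subgroup.normal_of_index_eq_two hi
  rcases IsSimpleGroup.eq_bot_or_eq_top_of_normal H inferInstance with e | e
  · subst e
    rw [index_bot] at hi
    haveI : Fact (Nat.Prime 2) := ⟨Nat.prime_two⟩
    haveI : IsCyclic G := isCyclic_of_prime_card hi
    exact hns (Group.isSolvable_of_comm fun a b => IsCyclic.commutative.is_comm.comm a b)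
  · subst e
    rw [index_top] at hi
    omega

theorem not_quasiDihedral (h : Ords G) (hns : ¬ Group.IsSolvable G) (S : Sylow 2 G) :
    ¬ Cfsg.IsQuasiDihedral (S : Subgroup G) := by
  intro hS
  obtain ⟨D⟩ := CfsgLib.QD.exists_data hS
  obtain ⟨T, Q, hTS, hT, hQS, ⟨eQ⟩⟩ := CfsgLib.InvolPattern.qd_setup S D
  have h6 := (CfsgLib.InvolPattern.qd_simple_pattern (no_index_two hns) S hS D hT hTS hQS eQ).2
  haveI : Fact (Nat.Prime 3) := ⟨Nat.prime_three⟩
  have h3 : 3 ∣ Nat.card (normalizer (Q : Set G)) :=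
    (show 3 ∣ 6 by norm_num).trans (h6 ▸ relIndex_dvd_card _ _)
  obtain ⟨x, hx⟩ := exists_prime_orderOf_dvd_card' 3 h3
  rw [← orderOf_coe] at hx
  have huniq : ∀ c d : QuaternionGroup 2, c * c = 1 → c ≠ 1 → d * d = 1 → d ≠ 1 → c = d := by decide
  have hex : ∃ c : QuaternionGroup 2, c * c = 1 ∧ c ≠ 1 := by decide
  obtain ⟨c, hc2, hc1⟩ := hex
  set z : G := ((eQ.symm c : Q) : G) with hzdef
  have hzQ : z ∈ Q := SetLike.coe_mem _
  have hz2 : z * z = 1 := by rw [hzdef, ← coe_mul, ← map_mul, hc2, map_one, coe_one]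
  have hz1 : z ≠ 1 := fun e => hc1 (by simpa using congrArg eQ (Subtype.ext e : eQ.symm c = 1))
  have hcz : (x : G) * z * (x : G)⁻¹ = z := by
    have hm := (mem_normalizer_iff.1 x.2 z).1 hzQ
    have hu := huniq (eQ ⟨_, hm⟩) c
      (by rw [← map_mul, ← map_one eQ]; congr 1; exact Subtype.ext (by
        show (x : G) * z * (x : G)⁻¹ * ((x : G) * z * (x : G)⁻¹) = 1
        rw [conj_mul, hz2]; simp))
      (fun e => hz1 (conj_eq_one_iff.1 (congrArg Subtype.val
        ((eQ.map_eq_one_iff).1 e : (⟨_, hm⟩ : Q) = 1)))) hc2 hc1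
    have : (⟨_, hm⟩ : Q) = eQ.symm c := by rw [← hu, MulEquiv.symm_apply_apply]
    exact congrArg Subtype.val this
  exact hz1 (h.eq_one_of_commute Nat.prime_three hx (mul_inv_eq_iff_eq_mul.1 hcz)
    (by rw [orderOf_eq_prime (p := 2) (by rw [pow_two]; exact hz2) hz1]; norm_num))

/-- A self-centralizing four-group inside a larger Sylow subgroup. -/
theorem isSeven_of_four (h : Ords G) (hns : ¬ Group.IsSolvable G) (h8 : 8 ∣ Nat.card G)
    {a b : G} (ha : orderOf a = 2) (hb : orderOf b = 2) (hab : a ≠ b) (hc : Commute a b)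
    (hC : ∀ c : G, Commute c a → Commute c b → c = 1 ∨ c = a ∨ c = b ∨ c = a * b) : IsSeven G := by
  classical
  haveI : Fact (Nat.Prime 2) := ⟨Nat.prime_two⟩
  have hA : IsPGroup 2 (closure ({a, b} : Set G)) := by
    refine (h.centralizer_isPGroup Nat.prime_two ha).to_le ((closure_le _).2 ?_)
    rintro y (rfl | rfl)
    · exact mem_centralizer_singleton_iff.2 rfl
    · exact mem_centralizer_singleton_iff.2 hc.eq.symm
  obtain ⟨S, hS⟩ := hA.exists_le_sylow
  have haS : a ∈ (S : Subgroup G) := hS (subset_closure (by simp))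
  have hbS : b ∈ (S : Subgroup G) := hS (subset_closure (by simp))
  have h8S : 8 ∣ Nat.card (S : Subgroup G) := by
    rw [show (8 : ℕ) = 2 ^ 3 from rfl]
    exact Sylow.pow_dvd_card_of_pow_dvd_card S h8
  -- one of the generators is not central
  have hnc : ∃ u w : G, u ∈ (S : Subgroup G) ∧ w ∈ (S : Subgroup G) ∧ orderOf u = 2 ∧ orderOf w = 2 ∧
      u ≠ w ∧ Commute u w ∧ (∀ c : G, Commute c u → Commute c w → c = 1 ∨ c = u ∨ c = w ∨ c = u * w) ∧
      ∃ s ∈ (S : Subgroup G), ¬ Commute s u := by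
    by_cases hca : ∀ s ∈ (S : Subgroup G), Commute s a
    · by_cases hcb : ∀ s ∈ (S : Subgroup G), Commute s b
      · exfalso
        have hle : Nat.card (S : Subgroup G) ≤ 4 := by
          refine (Set.ncard_le_ncard (t := ({1, a, b, a * b} : Set G)) fun s hs => ?_).trans ?_
          · simpa using hC s (hca s hs) (hcb s hs)
          · refine (Set.ncard_insert_le _ _).trans (Nat.succ_le_succ ?_)
            refine (Set.ncard_insert_le _ _).trans (Nat.succ_le_succ ?_)
            exact (Set.ncard_insert_le _ _).trans (by rw [Set.ncard_singleton])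
        have := Nat.le_of_dvd Nat.card_pos h8S
        omega
      · push Not at hcb
        exact ⟨b, a, hbS, haS, hb, ha, hab.symm, hc.symm, fun c h1 h2 => by
          rcases hC c h2 h1 with e | e | e | e
          · exact Or.inl e
          · exact Or.inr (Or.inr (Or.inl e))
          · exact Or.inr (Or.inl e)
          · exact Or.inr (Or.inr (Or.inr (e.trans hc.eq))), hcb⟩
    · push Not at hca
      exact ⟨a, b, haS, hbS, ha, hb, hab, hc, hC, hca⟩
  obtain ⟨u, w, huS, hwS, hu, hw, huw, hcuw, hCuw, s₀, hs₀, hs₀u⟩ := hnc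
  have hu2 : u * u = 1 := by rw [← pow_two, ← hu, pow_orderOf_eq_one]
  -- the centre of `S` contains one of `w`, `u * w`
  haveI : Nontrivial (S : Subgroup G) := ⟨⟨u, huS⟩, 1, fun e => by
    have := congrArg Subtype.val e
    simp only [coe_one] at this
    rw [this, orderOf_one] at hu; omega⟩
  haveI := S.2.center_nontrivial
  obtain ⟨z, hz1⟩ := exists_ne (1 : center (S : Subgroup G))
  have hzc : ∀ y ∈ (S : Subgroup G), Commute y ((z : (S : Subgroup G)) : G) := fun y hy =>
    congrArg Subtype.val (mem_center_iff.1 z.2 ⟨y, hy⟩)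
  have hzuw : ((z : (S : Subgroup G)) : G) = w ∨ ((z : (S : Subgroup G)) : G) = u * w := by
    rcases hCuw _ (hzc u huS).symm (hzc w hwS).symm with e | e | e | e
    · exact absurd (Subtype.ext (Subtype.ext e)) hz1
    · exact absurd (e ▸ hzc s₀ hs₀) hs₀u
    · exact Or.inl e
    · exact Or.inr e
  have hCS : ∀ y ∈ (S : Subgroup G), Commute y u → Commute y w := fun y hy hyu => by
    rcases hzuw with e | e
    · exact e ▸ hzc y hy
    · have h1 : Commute y (u * w) := e ▸ hzc y hy
      have h2 := (hyu.inv_right).mul_right h1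
      rwa [inv_mul_cancel_left] at h2
  have hcard : Nat.card (centralizer ({⟨u, huS⟩} : Set (S : Subgroup G))) = 4 := by
    have hu' : orderOf (⟨u, huS⟩ : (S : Subgroup G)) = 2 := by rwa [Subgroup.orderOf_mk]
    have himg : ((centralizer ({⟨u, huS⟩} : Set (S : Subgroup G))).map (S : Subgroup G).subtype : Set G) =
        ({1, u, w, u * w} : Set G) := by
      ext y
      simp only [coe_map, Set.mem_image, SetLike.mem_coe, Set.mem_insert_iff, Set.mem_singleton_iff]
      constructor
      · rintro ⟨⟨y, hy⟩, hyc, rfl⟩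
        have hyu : Commute y u := congrArg Subtype.val (mem_centralizer_singleton_iff.1 hyc)
        exact hCuw y hyu (hCS y hy hyu)
      · intro hy
        have key : y ∈ (S : Subgroup G) ∧ Commute y u := by
          rcases hy with rfl | rfl | rfl | rfl
          · exact ⟨one_mem _, Commute.one_left u⟩
          · exact ⟨huS, Commute.refl _⟩
          · exact ⟨hwS, hcuw.symm⟩
          · exact ⟨mul_mem huS hwS, (Commute.refl u).mul_left hcuw.symm⟩
        exact ⟨⟨y, key.1⟩, mem_centralizer_singleton_iff.2 (Subtype.ext key.2.eq), rfl⟩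
    rw [← card_map_of_injective (f := (S : Subgroup G).subtype) (Subgroup.subtype_injective _),
      ← SetLike.coe_sort_coe, himg, Nat.card_coe_set_eq, Set.ncard_eq_four]
    have hw2 : w * w = 1 := by rw [← pow_two, ← hw, pow_orderOf_eq_one]
    have hu1 : u ≠ 1 := fun e => by rw [e, orderOf_one] at hu; omega
    have hw1 : w ≠ 1 := fun e => by rw [e, orderOf_one] at hw; omega
    refine ⟨_, _, _, _, hu1.symm, hw1.symm, ?_, huw, fun e => hw1 (mul_eq_left.1 e.symm),
      fun e => hu1 (mul_eq_right.1 e.symm), rfl⟩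
    intro e
    exact huw ((mul_eq_one_iff_eq_inv.1 e.symm).trans (inv_eq_of_mul_eq_one_right hw2))
  have hu' : orderOf (⟨u, huS⟩ : (S : Subgroup G)) = 2 := by rwa [Subgroup.orderOf_mk]
  rcases Cfsg.Agent.S3224.result S.2 ⟨u, huS⟩ hu' hcard with ⟨n, hn⟩ | hq | h4
  · refine isSeven_of_dihedral h hns S n ?_ hn
    obtain ⟨e⟩ := hn
    rw [Nat.card_congr e.toEquiv, DihedralGroup.nat_card] at h8S
    by_contra hlt
    rcases (show n = 0 ∨ n = 1 by omega) with rfl | rfl
    · haveI : Infinite (DihedralGroup 0) := inferInstance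
      haveI : Finite (DihedralGroup 0) := Finite.of_equiv _ e.toEquiv
      exact not_finite (DihedralGroup 0)
    · omega
  · exact absurd hq (not_quasiDihedral h hns S)
  · have := Nat.le_of_dvd (by omega) h8S
    omega

end CfsgLib.RecogSeven
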