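import Cfsg.Agent.RecogSeven.Strong
import Cfsg.Agent.RecogSeven.Local
import Cfsg.Agent.S0505
import Cfsg.Agent.S0518
import Cfsg.Agent.Char.CNTheorem

/-!
Groups whose element orders are powers of two or primes other than five, with three prime divisors.
-/

set_option autoImplicit false
set_option linter.unusedSectionVars false

namespace CfsgLib.RecogSeven

open Subgroup

universe u

theorem isSeven_of_simple {G : Type u} [Group G] [Finite G] [IsSimpleGroup G] (h : Ords G)
    (hns : ¬ Group.IsSolvable G) (hsub : ∀ H : Subgroup G, H ≠ ⊤ → Group.IsSolvable H ∨ IsSeven H) :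
    IsSeven G := by
  classical
  haveI : Fact (Nat.Prime 2) := ⟨Nat.prime_two⟩
  have h2 : Even (Nat.card G) := by
    by_contra ho
    exact hns (CfsgLib.Char.cn_odd_solvable (Nat.not_even_iff_odd.1 ho) h.isCNGroup)
  have hnotp : ¬ IsPGroup 2 G := fun hp => hns (by haveI := hp.isNilpotent; infer_instance)
  have hnorm : ∀ T : Subgroup G, IsPGroup 2 T → T.Normal → T = ⊥ := fun T hT hTn =>
    (IsSimpleGroup.eq_bot_or_eq_top_of_normal T hTn).resolve_right fun e =>
      hnotp ((e ▸ hT : IsPGroup 2 (⊤ : Subgroup G)).of_equiv topEquiv)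
  have hchar : Cfsg.IsCharacteristicTwoType G := by
    refine Cfsg.Agent.S0505.result h2 (fun t ht => ?_) fun t ht => oddCore_centralizer h ht
    haveI := (h.centralizer_isPGroup Nat.prime_two ht).isNilpotent
    infer_instance
  have hO : Cfsg.pCore 2 G = ⊥ := sSup_eq_bot.2 fun N hN => hnorm N hN.2 hN.1
  have hloc : ∀ L : Subgroup G, Cfsg.IsTwoLocal L → Group.IsSolvable L := by
    rintro L ⟨T, hT2, hT1, rfl⟩
    set L := normalizer (T : Set G)
    have hL : L ≠ ⊤ := fun e => hT1 (hnorm T hT2 (normalizer_eq_top_iff.1 e))
    refine (hsub L hL).resolve_right fun h7 => ?_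
    haveI := h7.1
    have hTL : T ≤ L := le_normalizer
    rcases IsSimpleGroup.eq_bot_or_eq_top_of_normal (T.subgroupOf L) normal_in_normalizer with e | e
    · rw [subgroupOf_eq_bot] at e
      exact hT1 (le_bot_iff.1 (e le_rfl hTL))
    · refine h7.not_solvable ?_
      have hL2 : IsPGroup 2 L := hT2.to_le (subgroupOf_eq_top.1 e)
      haveI := hL2.isNilpotent
      infer_instance
  have hH : closure {g : G | Odd (orderOf g)} = ⊤ := by
    have hp := CfsgLib.BSWId.pResidual_eq_top (G := G)
      fun hc => hns (Group.isSolvable_of_comm hc)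
    rw [← hp, Cfsg.pResidual]
    congr 1
    ext g
    exact Nat.coprime_two_right.symm
  have hZ : ∀ S : Sylow 2 G,
      centralizer {z : G | z ∈ (S : Subgroup G) ∧ z ^ 2 = 1 ∧ ∀ s ∈ (S : Subgroup G), s * z = z * s} ≤
        normalizer ((S : Subgroup G) : Set G) := by
    intro S
    haveI : Nontrivial (S : Subgroup G) := Finite.one_lt_card_iff_nontrivial.1 (by
      have hd : 2 ∣ Nat.card (S : Subgroup G) := by
        have := Sylow.pow_dvd_card_of_pow_dvd_card (n := 1) S (by rw [pow_one]; exact even_iff_two_dvd.1 h2)
        rwa [pow_one] at this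
      have := Nat.le_of_dvd Nat.card_pos hd
      omega)
    haveI := S.2.center_nontrivial
    have hdvd : 2 ∣ Nat.card (center (S : Subgroup G)) := by
      obtain ⟨k, hk⟩ := (S.2.to_subgroup (center (S : Subgroup G))).exists_card_eq
      rw [hk]
      refine dvd_pow_self 2 fun e0 => ?_
      have := Finite.one_lt_card (α := center (S : Subgroup G))
      rw [hk, e0] at this
      omega
    obtain ⟨z, hz⟩ := exists_prime_orderOf_dvd_card' 2 hdvd
    rw [← orderOf_coe, ← orderOf_coe] at hz
    set W := centralizer {z : G | z ∈ (S : Subgroup G) ∧ z ^ 2 = 1 ∧ ∀ s ∈ (S : Subgroup G), s * z = z * s}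
    have hzW : ((z : (S : Subgroup G)) : G) ∈
        {z : G | z ∈ (S : Subgroup G) ∧ z ^ 2 = 1 ∧ ∀ s ∈ (S : Subgroup G), s * z = z * s} :=
      ⟨(z : (S : Subgroup G)).2, by have := pow_orderOf_eq_one ((z : (S : Subgroup G)) : G); rwa [hz] at this, fun s hs =>
        congrArg Subtype.val (mem_center_iff.1 z.2 ⟨s, hs⟩)⟩
    have hW2 : IsPGroup 2 W := h.isPGroup_of_commute Nat.prime_two hz fun y hy =>
      mem_centralizer_iff.1 hy _ hzW
    have hSW : (S : Subgroup G) ≤ W := fun s hs => mem_centralizer_iff.2 fun y hy => (hy.2.2 s hs).symm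
    rw [S.3 hW2 hSW]
    exact le_normalizer
  rcases Cfsg.Agent.S0518.result hchar hO hloc hZ ⊤ hH.symm with
    ⟨K, hK⟩ | ⟨M₁, -, -, hM₁, -, he₁, -, -⟩
  · exact isSeven_of_strong h hns h2 hK (hsub K hK.1)
  · haveI : IsSimpleGroup (⊤ : Subgroup G) := MulEquiv.isSimpleGroup topEquiv
    have hns' : ¬ Group.IsSolvable (⊤ : Subgroup G) := fun hs => hns (by
      haveI := hs
      exact Group.isSolvable_of_surjective (f := (topEquiv : (⊤ : Subgroup G) ≃* G).toMonoidHom)
        (MulEquiv.surjective _))
    exact (isSeven_of_local (h.subgroup ⊤) hns' M₁ hM₁.1 he₁).of_equiv topEquiv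

theorem isSeven_aux : ∀ (n : ℕ) (G : Type u) [Group G] [Finite G], Nat.card G = n → Ords G →
    ¬ Group.IsSolvable G → IsSeven G := by
  intro n
  induction n using Nat.strong_induction_on with
  | _ n ih =>
    intro G _ _ hn h hns
    classical
    have hlt : ∀ H : Subgroup G, H ≠ ⊤ → Nat.card H < n := fun H hH =>
      hn ▸ lt_of_not_ge fun hle => hH (eq_top_of_le_card H hle)
    haveI : Nontrivial G := by
      by_contra hh
      rw [not_nontrivial_iff_subsingleton] at hh
      exact hns inferInstance
    have hsub : ∀ H : Subgroup G, H ≠ ⊤ → Group.IsSolvable H ∨ IsSeven H := fun H hH =>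
      (em (Group.IsSolvable H)).imp_right fun hs => ih _ (hlt H hH) H rfl (h.subgroup H) hs
    by_cases hsimp : ∀ N : Subgroup G, N.Normal → N = ⊥ ∨ N = ⊤
    · haveI : IsSimpleGroup G := { eq_bot_or_eq_top_of_normal := hsimp }
      exact isSeven_of_simple h hns hsub
    exfalso
    push Not at hsimp
    obtain ⟨N, hN, hN1, hN2⟩ := hsimp
    haveI := hN
    -- a simple `G` has no such `N`
    have hsimple : ¬ IsSeven G := fun h7 => by
      haveI := h7.1
      rcases IsSimpleGroup.eq_bot_or_eq_top_of_normal N hN with e | e
      · exact hN1 e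
      · exact hN2 e
    rcases hsub N hN2 with hNs | hN7
    · obtain ⟨p, hp, hNp⟩ := CfsgLib.EPPO.exists_isPGroup hns h.isPrimePow N hNs
      haveI := Fact.mk hp
      have hqns : ¬ Group.IsSolvable (G ⧸ N) := fun hs => hns (by
        haveI := hs; haveI := hNs
        exact Group.isSolvable_of_ker_le_range N.subtype (QuotientGroup.mk' N) (by simp))
      have hcard := card_eq_card_quotient_mul_card_subgroup N
      have hN0 : 1 < Nat.card N := N.one_lt_card_iff_ne_bot.2 hN1
      have hqlt : Nat.card (G ⧸ N) < n := by
        rw [← hn, hcard]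
        exact lt_mul_of_one_lt_right Nat.card_pos hN0
      have hq7 := ih _ hqlt (G ⧸ N) rfl (h.quotient N) hqns
      rw [hq7.2] at hcard
      obtain ⟨k, hk⟩ := hNp.exists_card_eq
      by_cases hp3 : p = 3
      · subst hp3
        -- every involution inverts `N`
        haveI : Fact (Nat.Prime 2) := ⟨Nat.prime_two⟩
        obtain ⟨t, ht⟩ := exists_prime_orderOf_dvd_card' (G := G) 2
          (hcard ▸ Dvd.dvd.mul_right (by norm_num) _)
        have hinv : ∀ v : G, orderOf v = 2 → ∀ x ∈ N, v * x * v⁻¹ = x⁻¹ := fun v hv =>
          h.inverts hv Nat.prime_three (by norm_num) hNp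
            (by rw [normalizer_eq_top_iff.2 hN]; exact mem_top v)
        set C := centralizer (N : Set G) with hC
        obtain ⟨x, hx⟩ := exists_prime_orderOf_dvd_card' (G := N) 3 (hk ▸ dvd_pow_self 3 (fun e => by
          rw [e, pow_zero] at hk; omega))
        rw [← orderOf_coe] at hx
        have hC3 : IsPGroup 3 C := h.isPGroup_of_commute Nat.prime_three hx fun y hy =>
          mem_centralizer_iff.1 hy x x.2
        haveI : C.Normal := by rw [hC]; infer_instance
        have hCN : C ≤ N := by
          haveI := hq7.1
          rcases IsSimpleGroup.eq_bot_or_eq_top_of_normal (C.map (QuotientGroup.mk' N))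
            (Subgroup.Normal.map inferInstance _ (QuotientGroup.mk'_surjective N)) with e | e
          · intro y hy
            have hm : QuotientGroup.mk' N y ∈ C.map (QuotientGroup.mk' N) := mem_map_of_mem _ hy
            rw [e, mem_bot] at hm
            exact (QuotientGroup.eq_one_iff y).1 hm
          · exfalso
            refine hq7.not_solvable ?_
            have hq3 : IsPGroup 3 (⊤ : Subgroup (G ⧸ N)) := e ▸ hC3.map _
            haveI := (hq3.of_equiv topEquiv).isNilpotent
            infer_instance
        have hcen : QuotientGroup.mk' N t ∈ center (G ⧸ N) := by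
          rw [mem_center_iff]
          intro g'
          obtain ⟨g, rfl⟩ := QuotientGroup.mk'_surjective N g'
          have hs : orderOf (g * t * g⁻¹) = 2 := by rw [CfsgLib.Invol.orderOf_conj_eq, ht]
          have hw : t * (g * t * g⁻¹) ∈ N := by
            refine hCN (mem_centralizer_iff.2 fun y hy => ?_)
            have h1 := hinv _ hs y hy
            have h2 := hinv t ht y⁻¹ (inv_mem hy)
            rw [inv_inv] at h2
            symm
            calc t * (g * t * g⁻¹) * y = t * ((g * t * g⁻¹) * y * (g * t * g⁻¹)⁻¹) * (g * t * g⁻¹) := by group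
              _ = t * y⁻¹ * t⁻¹ * (t * (g * t * g⁻¹)) := by rw [h1]; group
              _ = y * (t * (g * t * g⁻¹)) := by rw [h2]
          have hw' := (QuotientGroup.eq_one_iff _).2 hw
          have ht2 : t⁻¹ = t := inv_eq_of_mul_eq_one_right (by rw [← pow_two, ← ht, pow_orderOf_eq_one])
          have e2 : QuotientGroup.mk' N (g * t * g⁻¹) = QuotientGroup.mk' N t := by
            have := mul_eq_one_iff_inv_eq.1 (show QuotientGroup.mk' N t * QuotientGroup.mk' N (g * t * g⁻¹) = 1 by
              rw [← map_mul]; exact hw')
            rw [← this, ← map_inv, ht2]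
          rw [map_mul, map_mul, map_inv, mul_inv_eq_iff_eq_mul] at e2
          exact e2
        haveI := hq7.1
        rcases IsSimpleGroup.eq_bot_or_eq_top_of_normal (center (G ⧸ N)) inferInstance with e | e
        · rw [e, mem_bot] at hcen
          have htN := (QuotientGroup.eq_one_iff t).1 hcen
          have := orderOf_dvd_natCard N htN
          rw [ht, hk] at this
          have := (Nat.prime_dvd_prime_iff_eq Nat.prime_two Nat.prime_three).1
            (Nat.prime_two.dvd_of_dvd_pow this)
          omega
        · exact hqns (Group.isSolvable_of_comm fun a b =>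
            mem_center_iff.1 (e ▸ mem_top b) a)
      · refine hsimple (isSeven_of_three h hns (hcard ▸ Dvd.dvd.mul_right (by norm_num) _) fun h9 => ?_)
        rw [hcard, hk] at h9
        have hco : Nat.Coprime 9 (p ^ k) := by
          rw [show (9 : ℕ) = 3 ^ 2 by norm_num]
          exact Nat.Coprime.pow _ _ ((Nat.coprime_primes Nat.prime_three hp).2 (Ne.symm hp3))
        have := hco.dvd_of_dvd_mul_right h9
        omega
    · haveI : Fact (Nat.Prime 7) := ⟨by norm_num⟩
      haveI := hN7.1
      obtain ⟨Q⟩ : Nonempty (Sylow 7 N) := inferInstance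
      set Q' := (Q : Subgroup N).map N.subtype with hQ'
      set M := normalizer (Q' : Set G) with hM
      have hQc : Nat.card (Q : Subgroup N) = 7 := by
        rw [Q.card_eq_multiplicity, hN7.2, show (168 : ℕ) = 7 * 24 by norm_num,
          Nat.factorization_mul (by norm_num) (by norm_num), Finsupp.add_apply,
          (Fact.out : Nat.Prime 7).factorization_self,
          Nat.factorization_eq_zero_of_not_dvd (show ¬ 7 ∣ 24 by norm_num), add_zero, pow_one]
      have hQ'c : Nat.card Q' = 7 := by rw [hQ', card_map_of_injective N.subtype_injective, hQc]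
      have hn7 : (normalizer ((Q : Subgroup N) : Set N)).index = 8 := by
        have hidx : (Q : Subgroup N).index = 24 := by
          have := (Q : Subgroup N).card_mul_index
          rw [hQc, hN7.2] at this
          omega
        have h1 : Nat.card (Sylow 7 N) ∣ 24 := hidx ▸ Q.card_dvd_index
        have h3 : Nat.card (Sylow 7 N) % 7 = 1 := card_sylow_modEq_one 7 N
        have hcq : Nat.card (Sylow 7 N) = (normalizer ((Q : Subgroup N) : Set N)).index :=
          Sylow.card_eq_index_normalizer Q
        have h4 : Nat.card (Sylow 7 N) ≠ 1 := fun e1 => by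
          rw [hcq, index_eq_one, normalizer_eq_top_iff] at e1
          rcases IsSimpleGroup.eq_bot_or_eq_top_of_normal _ e1 with e | e
          · rw [e, card_bot] at hQc; omega
          · rw [e, card_top, hN7.2] at hQc; omega
        have h5 := Nat.le_of_dvd (by norm_num) h1
        rw [← hcq]
        interval_cases hh : Nat.card (Sylow 7 N) <;> omega
      have hMN : 3 ∣ Nat.card (N ⊓ M : Subgroup G) := by
        have hsub' : M.subgroupOf N = normalizer ((Q : Subgroup N) : Set N) := by
          ext x
          rw [mem_subgroupOf, hM, mem_normalizer_iff, mem_normalizer_iff]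
          constructor
          · intro hx y
            have := hx (y : G)
            constructor
            · intro hy
              obtain ⟨z, hz, hze⟩ := this.1 ⟨y, hy, rfl⟩
              exact (show z = x * y * x⁻¹ from Subtype.ext hze) ▸ hz
            · intro hy
              obtain ⟨z, hz, hze⟩ := this.2 ⟨_, hy, rfl⟩
              exact (show z = y from Subtype.ext hze) ▸ hz
          · intro hx y
            by_cases hy : y ∈ N
            · have := hx ⟨y, hy⟩
              rw [← mem_map_iff_mem N.subtype_injective, ← mem_map_iff_mem N.subtype_injective] at this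
              exact this
            · constructor
              · intro hyQ; exact absurd (map_subtype_le _ hyQ) hy
              · intro hyQ
                have h' := mul_mem (mul_mem (inv_mem x.2) (map_subtype_le _ hyQ)) x.2
                exact absurd (by simpa [mul_assoc] using h') hy
        rw [inf_comm, ← Nat.card_congr (subgroupOfEquivOfLe (inf_le_right : M ⊓ N ≤ N)).toEquiv,
          inf_subgroupOf_right, hsub']
        have := card_mul_index (normalizer ((Q : Subgroup N) : Set N))
        rw [hn7, hN7.2] at this
        omega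
      have hfr : M ⊔ N = ⊤ := Sylow.normalizer_sup_eq_top Q
      have hidx : N.index = N.relIndex M := by
        rw [← relIndex_top_right, ← hfr, relIndex_sup_right]
      have hMc : Nat.card (N ⊓ M : Subgroup G) * N.relIndex M = Nat.card M := by
        rw [← inf_relIndex_right]
        have := relIndex_mul_relIndex ⊥ (N ⊓ M) M bot_le inf_le_right
        rwa [relIndex_bot_left, relIndex_bot_left] at this
      -- nine does not divide the order of `M`
      have hM9 : ¬ 9 ∣ Nat.card M := by
        intro h9
        set f := Q'.normalizerMonoidHom with hf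
        haveI : IsCyclic Q' := isCyclic_of_prime_card hQ'c
        have hA : Nat.card (MulAut Q') = 6 := by
          rw [Nat.card_congr (IsCyclic.mulAutMulEquiv Q').toEquiv, hQ'c, Nat.card_eq_fintype_card,
            ZMod.card_units_eq_totient, Nat.totient_prime (Fact.out : Nat.Prime 7)]
        obtain ⟨x, hx⟩ := exists_prime_orderOf_dvd_card' (G := Q') 7 (dvd_of_eq hQ'c.symm)
        rw [← orderOf_coe] at hx
        have hker : IsPGroup 7 f.ker := by
          have hk : f.ker = (centralizer (Q' : Set G)).subgroupOf M := normalizerMonoidHom_ker _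
          rw [hk]
          exact (h.isPGroup_of_commute (Fact.out : Nat.Prime 7) hx fun y hy =>
            mem_centralizer_iff.1 hy x x.2).comap_of_injective _ M.subtype_injective
        obtain ⟨m, hm⟩ := hker.exists_card_eq
        have hcm : Nat.card M = Nat.card f.range * 7 ^ m := by
          rw [← hm, card_eq_card_quotient_mul_card_subgroup f.ker,
            Nat.card_congr (QuotientGroup.quotientKerEquivRange f).toEquiv]
        rw [hcm] at h9
        have h9' := (Nat.Coprime.pow_right m (by norm_num : Nat.Coprime 9 7)).dvd_of_dvd_mul_right h9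
        have h6 : Nat.card f.range ∣ 6 := hA ▸ card_subgroup_dvd_card _
        have := h9'.trans h6
        omega
      have h3i : ¬ 3 ∣ N.index := fun h3i => hM9 (hMc ▸ (show (9 : ℕ) = 3 * 3 by norm_num) ▸
        Nat.mul_dvd_mul hMN (hidx ▸ h3i))
      have hcard := card_mul_index N
      rw [hN7.2] at hcard
      refine hsimple (isSeven_of_three h hns (hcard ▸ Dvd.dvd.mul_right (by norm_num) _) fun h9 => ?_)
      rw [← hcard] at h9
      omega

theorem main {G : Type u} [Group G] [Finite G] {F : Type*} [Field F] [Fintype F] (hF : Fintype.card F = 7)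
    (h3 : 3 ≤ (Nat.card G).primeFactors.card)
    (hord : ∀ g : G, g ≠ 1 → (∃ k : ℕ, orderOf g = 2 ^ k) ∨ ((orderOf g).Prime ∧ orderOf g ≠ 5)) :
    Nonempty (G ≃* Matrix.ProjectiveSpecialLinearGroup (Fin 2) F) := by
  obtain ⟨hs, hc⟩ := isSeven_aux (Nat.card G) G rfl hord (Ords.not_solvable hord h3)
  haveI := hs
  exact Cfsg.Agent.S0495.result hc hF

end CfsgLib.RecogSeven
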