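import Cfsg.Agent.RecogSeven.Basic
import Cfsg.Agent.S2475
import Cfsg.Prelude.Def_Exceptional
import Mathlib.FieldTheory.Finite.Basic

/-!
The candidates: `PSL₂(q)` and groups of Suzuki order.
-/

set_option autoImplicit false

namespace CfsgLib.RecogSeven

variable {G : Type*} [Group G] [Finite G]

theorem not_isSuzuki (h : Ords G) : ¬ Cfsg.IsSuzuki G := by
  rintro ⟨-, m, -, hc⟩
  refine h.not_five ?_
  rw [hc]
  refine Dvd.dvd.mul_right (Dvd.dvd.mul_left ?_ _) _
  have e : (2 ^ (2 * m + 1)) ^ 2 = 4 ^ (2 * m + 1) := by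
    rw [← pow_mul, mul_comm, pow_mul]; rfl
  rw [e, Nat.dvd_iff_mod_eq_zero, Nat.add_mod, Nat.pow_mod, show 4 % 5 = 4 from rfl, pow_succ, pow_mul,
    Nat.mul_mod, Nat.pow_mod]
  norm_num

/-- An admissible element order. -/
def Good (n : ℕ) : Prop := (∃ k, n = 2 ^ k) ∨ (n.Prime ∧ n ≠ 5)

theorem three_pow_mod_eight (f : ℕ) : 3 ^ f % 8 = 1 ∨ 3 ^ f % 8 = 3 := by
  induction f with
  | zero => norm_num
  | succ n ih => rw [pow_succ, Nat.mul_mod]; rcases ih with e | e <;> rw [e] <;> norm_num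

theorem three_pow_add_one {f j : ℕ} (h : 3 ^ f + 1 = 2 ^ j) : f ≤ 1 := by
  have hj : j ≤ 2 := by
    by_contra hj
    have : 8 ∣ 2 ^ j := (show (8 : ℕ) = 2 ^ 3 from rfl) ▸ pow_dvd_pow 2 (by omega)
    rcases three_pow_mod_eight f with e | e <;> omega
  have : 2 ^ j ≤ 4 := (Nat.pow_le_pow_right (by norm_num) hj).trans (by norm_num)
  by_contra hf
  have : 3 ^ 2 ≤ 3 ^ f := Nat.pow_le_pow_right (by norm_num) (by omega)
  omega

theorem three_pow_sub_one {f j : ℕ} (h : 3 ^ f = 2 ^ j + 1) : f ≤ 2 := by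
  rcases Nat.even_or_odd' f with ⟨k, rfl | rfl⟩
  · have hd : 3 ^ k + 1 ∣ 2 ^ j := by
      refine ⟨3 ^ k - 1, ?_⟩
      have e : 3 ^ (2 * k) = (3 ^ k) ^ 2 := by rw [← pow_mul, mul_comm]
      rw [← Nat.sq_sub_sq, ← e, h, one_pow, Nat.add_sub_cancel]
    obtain ⟨i, -, hi⟩ := (Nat.dvd_prime_pow Nat.prime_two).1 hd
    have := three_pow_add_one hi
    omega
  · have e : 3 ^ (2 * k + 1) % 8 = 3 := by
      rw [pow_succ, pow_mul, Nat.mul_mod, Nat.pow_mod]; norm_num
    have hj : j ≤ 1 := by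
      by_contra hj
      have : 4 ∣ 2 ^ j := (show (4 : ℕ) = 2 ^ 2 from rfl) ▸ pow_dvd_pow 2 (by omega)
      omega
    have : 2 ^ j ≤ 2 := (Nat.pow_le_pow_right (by norm_num) hj).trans (by norm_num)
    by_contra hk
    have : 3 ^ 2 ≤ 3 ^ (2 * k + 1) := Nat.pow_le_pow_right (by norm_num) (by omega)
    omega

theorem good_even {n : ℕ} (h : Good n) (h2 : Even n) : ∃ k, n = 2 ^ k := by
  rcases h with h | ⟨hp, -⟩
  · exact h
  · exact ⟨1, by rw [pow_one]; exact (Nat.Prime.even_iff hp).1 h2⟩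

theorem good_odd {n : ℕ} (h : Good n) (h1 : n ≠ 1) (h2 : Odd n) : n.Prime ∧ n ≠ 5 := by
  rcases h with ⟨k, rfl⟩ | h
  · rcases Nat.eq_zero_or_pos k with rfl | hk
    · exact absurd (pow_zero 2) h1
    · exact absurd h2 (Nat.not_odd_iff_even.2 ((Nat.even_pow).2 ⟨even_two, hk.ne'⟩))
  · exact h

/-- The arithmetic: only `q = 7` is admissible. -/
theorem eq_seven {q p f : ℕ} (hp : p.Prime) (hq : q = p ^ f) (h4 : 4 ≤ q) (hgp : Good p)
    (h1 : Good ((q - 1) / Nat.gcd 2 (q - 1))) (h2 : Good ((q + 1) / Nat.gcd 2 (q - 1))) : q = 7 := by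
  have h3cases : 3 ∣ q → q = 3 ^ f := fun h3 => by
    have := (Nat.prime_dvd_prime_iff_eq Nat.prime_three hp).1 (Nat.prime_three.dvd_of_dvd_pow (hq ▸ h3))
    rw [hq, this]
  rcases Nat.even_or_odd' q with ⟨a, ha | ha⟩
  · have hg : Nat.gcd 2 (q - 1) = 1 := by
      rcases (Nat.dvd_prime Nat.prime_two).1 (Nat.gcd_dvd_left 2 (q - 1)) with e | e
      · exact e
      · have h' := Nat.gcd_dvd_right 2 (q - 1); rw [e] at h'; omega
    rw [hg, Nat.div_one] at h1 h2
    obtain ⟨hp1, hn1⟩ := good_odd h1 (by omega) ⟨a - 1, by omega⟩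
    obtain ⟨hp2, hn2⟩ := good_odd h2 (by omega) ⟨a, by omega⟩
    have h3 : ¬ 3 ∣ q := fun h3 => by
      have e := h3cases h3
      have : Odd (3 ^ f) := Odd.pow (by decide)
      rw [← e] at this
      exact Nat.not_even_iff_odd.2 this ⟨a, by omega⟩
    exfalso
    rcases (show 3 ∣ q - 1 ∨ 3 ∣ q + 1 by
      rcases (show q % 3 = 0 ∨ q % 3 = 1 ∨ q % 3 = 2 by omega) with e | e | e <;> omega) with h | h
    · have := (Nat.prime_dvd_prime_iff_eq Nat.prime_three hp1).1 h
      omega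
    · have := (Nat.prime_dvd_prime_iff_eq Nat.prime_three hp2).1 h
      omega
  · have hg : Nat.gcd 2 (q - 1) = 2 := Nat.gcd_eq_left (by omega)
    rw [hg, show (q - 1) / 2 = a by omega] at h1
    rw [hg, show (q + 1) / 2 = a + 1 by omega] at h2
    rcases Nat.even_or_odd a with hae | hao
    · obtain ⟨k, hk⟩ := good_even h1 hae
      obtain ⟨hp2, hn2⟩ := good_odd h2 (by omega) hae.add_one
      exfalso
      have hk3 : ¬ 3 ∣ a := fun h => by
        have := Nat.prime_three.dvd_of_dvd_pow (hk ▸ h)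
        omega
      have h3 : 3 ∣ q := by
        by_contra h3
        have := (Nat.prime_dvd_prime_iff_eq Nat.prime_three hp2).1
          (by rcases (show a % 3 = 0 ∨ a % 3 = 1 ∨ a % 3 = 2 by omega) with e | e | e <;> omega)
        obtain rfl : q = 5 := by omega
        have := (Nat.prime_dvd_prime_iff_eq hp Nat.prime_five).1
          (hq ▸ dvd_pow_self p (fun e => by rw [e, pow_zero] at hq; omega))
        rcases hgp with ⟨j, hj⟩ | ⟨-, h5⟩
        · have := Nat.prime_five.dvd_of_dvd_pow (show 5 ∣ 2 ^ j by omega)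
          omega
        · exact h5 this
      have hf := three_pow_sub_one (f := f) (j := k + 1) (by
        rw [← h3cases h3, pow_succ, ← hk]; omega)
      have : 3 ^ f ≤ 9 := (Nat.pow_le_pow_right (by norm_num) hf).trans (by norm_num)
      have := h3cases h3
      omega
    · obtain ⟨hp1, hn1⟩ := good_odd h1 (by omega) hao
      obtain ⟨k, hk⟩ := good_even h2 hao.add_one
      by_cases h3 : 3 ∣ q
      · exfalso
        have hf := three_pow_add_one (f := f) (j := k + 1) (by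
          rw [← h3cases h3, pow_succ, ← hk]; omega)
        have : 3 ^ f ≤ 3 := (Nat.pow_le_pow_right (by norm_num) hf).trans (by norm_num)
        have := h3cases h3
        omega
      · have hk3 : ¬ 3 ∣ a + 1 := fun h => by
          have := Nat.prime_three.dvd_of_dvd_pow (hk ▸ h)
          omega
        have := (Nat.prime_dvd_prime_iff_eq Nat.prime_three hp1).1
          (by rcases (show a % 3 = 0 ∨ a % 3 = 1 ∨ a % 3 = 2 by omega) with e | e | e <;> omega)
        omega

/-- The only admissible `PSL₂(q)`. -/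
theorem isSeven_of_psl {F : Type*} [Field F] [Fintype F] [IsSimpleGroup G] (h : Ords G)
    (hns : ¬ Group.IsSolvable G) (e : G ≃* Matrix.ProjectiveSpecialLinearGroup (Fin 2) F) : IsSeven G := by
  set q := Fintype.card F with hq
  have hcard := CfsgLib.Linear.Small.card_psl_two (F := F) (q := q) rfl
  rw [← Nat.card_congr e.toEquiv] at hcard
  have h4 : 4 ≤ q := by
    by_contra hlt
    have h2 := Fintype.one_lt_card (α := F)
    rcases (show q = 2 ∨ q = 3 by omega) with e2 | e2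
    · rw [e2, show Nat.gcd 2 (2 - 1) = 1 by decide] at hcard
      exact hns (CfsgLib.Char.isSolvable_of_card_eq 2 3 1 1 Nat.prime_two Nat.prime_three (by omega))
    · rw [e2, show Nat.gcd 2 (3 - 1) = 2 by decide] at hcard
      exact hns (CfsgLib.Char.isSolvable_of_card_eq 2 3 2 1 Nat.prime_two Nat.prime_three (by omega))
  obtain ⟨p, hp⟩ := CharP.exists F
  obtain ⟨f, hpp, hpf⟩ := FiniteField.card F p
  haveI := Fact.mk hpp
  have hgood : ∀ m : ℕ, m ∈ Set.range (orderOf : Matrix.ProjectiveSpecialLinearGroup (Fin 2) F → ℕ) →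
      Good m := by
    rintro m ⟨y, rfl⟩
    rw [← MulEquiv.orderOf_eq e.symm]
    by_cases hy : e.symm y = 1
    · rw [hy, orderOf_one]; exact Or.inl ⟨0, rfl⟩
    · exact h _ hy
  have hs := Cfsg.Agent.S2475.result (F := F) p h4
  have h7 : q = 7 := eq_seven hpp hpf h4 (hgood _ (hs ▸ Or.inl dvd_rfl))
    (hgood _ (hs ▸ Or.inr (Or.inl dvd_rfl))) (hgood _ (hs ▸ Or.inr (Or.inr dvd_rfl)))
  rw [h7, show Nat.gcd 2 (7 - 1) = 2 by decide] at hcard
  exact ⟨inferInstance, by omega⟩

end CfsgLib.RecogSeven
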