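import Cfsg.Agent.RecogSeven.Core
import Cfsg.Agent.RecogSeven.Dihedral
import Cfsg.Agent.Invol.StrongEmbedded
import Cfsg.Agent.S0340
import Cfsg.Agent.S1225
import Cfsg.Agent.S1004
import Cfsg.Agent.OddDep.KleinFour

/-!
Simple groups of the kind considered with a strongly embedded subgroup.
-/

set_option autoImplicit false
set_option linter.unusedSectionVars false

namespace CfsgLib.RecogSeven

open Subgroup

variable {G : Type*} [Group G] [Finite G] [IsSimpleGroup G]

theorem exists_two_invols (hns : ¬ Group.IsSolvable G) (h2 : Even (Nat.card G)) {K : Subgroup G}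
    (hK : Cfsg.IsStronglyEmbedded K) : ∃ a ∈ K, ∃ b ∈ K, orderOf a = 2 ∧ orderOf b = 2 ∧ a ≠ b ∧ Commute a b := by
  obtain ⟨E, hE⟩ := CfsgLib.OddDep.exists_klein_of_simple (G := G)
    (fun ho => absurd h2 (Nat.not_even_iff_odd.2 ho))
    (fun hc => hns (Group.isSolvable_of_comm fun a b => hc.commutative.is_comm.comm a b))
  haveI := hE
  have h2E : ∀ x : E, x ≠ 1 → orderOf x = 2 := fun x hx => by
    refine orderOf_eq_prime (hp := ⟨Nat.prime_two⟩) ?_ hx
    rw [← hE.exponent_two]; exact Monoid.pow_exponent_eq_one x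
  haveI : Nontrivial E := Finite.one_lt_card_iff_nontrivial.1 (by rw [hE.card_four]; norm_num)
  obtain ⟨x, hx⟩ := exists_ne (1 : E)
  obtain ⟨y, hy, hyx⟩ : ∃ y : E, y ≠ 1 ∧ y ≠ x := by
    by_contra hcon
    push Not at hcon
    have : Nat.card E ≤ 2 := by
      have hsub : (Set.univ : Set E) ⊆ {1, x} := fun z _ => by
        by_cases hz : z = 1
        · simp [hz]
        · simp [hcon z hz]
      rw [← Set.ncard_univ]
      exact (Set.ncard_le_ncard hsub).trans ((Set.ncard_insert_le _ _).trans (by rw [Set.ncard_singleton]))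
    rw [hE.card_four] at this
    omega
  obtain ⟨a, haK, ha⟩ := CfsgLib.StrongEmbed.exists_invol hK
  have hx2 : orderOf (x : G) = 2 := by rw [orderOf_coe]; exact h2E x hx
  obtain ⟨g, hg⟩ := isConj_iff.1 (CfsgLib.StrongEmbed.isConj_of_invols hK hx2 ha)
  have hy2 : orderOf (g * (y : G) * g⁻¹) = 2 := by
    rw [CfsgLib.Invol.orderOf_conj_eq, orderOf_coe]; exact h2E y hy
  have hxy : x * y = y * x := by
    have hsq : ∀ z : E, z * z = 1 := fun z => by
      rw [← pow_two, ← hE.exponent_two]; exact Monoid.pow_exponent_eq_one z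
    calc x * y = (x * y)⁻¹ := eq_inv_of_mul_eq_one_left (hsq _)
      _ = y⁻¹ * x⁻¹ := mul_inv_rev x y
      _ = y * x := by rw [inv_eq_of_mul_eq_one_right (hsq y), inv_eq_of_mul_eq_one_right (hsq x)]
  have hc : Commute a (g * (y : G) * g⁻¹) := by
    have : Commute (x : G) (y : G) := congrArg Subtype.val hxy
    rw [← hg]
    exact this.map (MulAut.conj g).toMonoidHom
  refine ⟨a, haK, _, CfsgLib.StrongEmbed.mem_of_commute hK haK ha hc.symm, ha, hy2, fun e => ?_, hc⟩
  rw [← hg] at e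
  exact hyx (Subtype.ext (mul_left_cancel (mul_right_cancel e)).symm)

/-- A strongly embedded subgroup isomorphic to the group of order `168` gives a dihedral Sylow subgroup. -/
theorem isSeven_of_strong_seven (h : Ords G) (hns : ¬ Group.IsSolvable G) {K : Subgroup G}
    (hK : Cfsg.IsStronglyEmbedded K) (hK7 : IsSeven K) : IsSeven G := by
  haveI : Fact (Nat.Prime 2) := ⟨Nat.prime_two⟩
  haveI := hK7.1
  obtain ⟨T⟩ : Nonempty (Sylow 2 K) := inferInstance
  obtain ⟨⟨e⟩, -, -⟩ := Cfsg.Agent.S1004.result hK7.2 T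
  set T' := (T : Subgroup K).map K.subtype with hT'
  obtain ⟨S, hS⟩ := (T.2.map K.subtype).exists_le_sylow
  rw [← hT'] at hS
  have hST : (S : Subgroup G) = T' := by
    refine le_antisymm ?_ hS
    have hne : Nontrivial (T : Subgroup K) := Finite.one_lt_card_iff_nontrivial.1 (by
      rw [Nat.card_congr e.toEquiv, DihedralGroup.nat_card]; norm_num)
    haveI := T.2.center_nontrivial
    obtain ⟨t, ht⟩ : ∃ t ∈ (T : Subgroup K), orderOf t = 2 := by
      obtain ⟨t, ht⟩ := exists_prime_orderOf_dvd_card' (G := (T : Subgroup K)) 2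
        (by rw [Nat.card_congr e.toEquiv, DihedralGroup.nat_card]; norm_num)
      exact ⟨t, t.2, by rwa [orderOf_coe]⟩
    haveI : Nontrivial (S : Subgroup G) := ⟨⟨(t : G), hS (mem_map_of_mem _ ht.1)⟩, 1, fun e' => by
      have := congrArg Subtype.val e'
      simp only [coe_one] at this
      have h2 := ht.2
      rw [← orderOf_coe, this, orderOf_one] at h2
      omega⟩
    haveI := S.2.center_nontrivial
    have hdvd : 2 ∣ Nat.card (center (S : Subgroup G)) := by
      obtain ⟨k, hk⟩ := (S.2.to_subgroup (center (S : Subgroup G))).exists_card_eq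
      rw [hk]
      refine dvd_pow_self 2 fun e0 => ?_
      have := Finite.one_lt_card (α := center (S : Subgroup G))
      rw [hk, e0] at this
      omega
    obtain ⟨z, hz⟩ := exists_prime_orderOf_dvd_card' 2 hdvd
    rw [← orderOf_coe, ← orderOf_coe] at hz
    have hzc : ∀ y ∈ (S : Subgroup G), Commute y ((z : (S : Subgroup G)) : G) := fun y hy =>
      congrArg Subtype.val (mem_center_iff.1 z.2 ⟨y, hy⟩)
    have hzK : ((z : (S : Subgroup G)) : G) ∈ K :=
      CfsgLib.StrongEmbed.mem_of_commute hK (t.2 : (t : G) ∈ K) (by rw [orderOf_coe]; exact ht.2)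
        (hzc _ (hS (mem_map_of_mem _ ht.1))).symm
    have hSK : (S : Subgroup G) ≤ K := fun y hy => CfsgLib.StrongEmbed.mem_of_commute hK hzK hz (hzc y hy)
    have hmax := T.3 (S.2.of_equiv (subgroupOfEquivOfLe hSK).symm) fun x hx =>
      mem_subgroupOf.2 (hS (mem_map_of_mem _ hx))
    rw [hT', ← hmax, map_subgroupOf_eq_of_le hSK]
  exact isSeven_of_dihedral h hns S 4 (by norm_num) ⟨((MulEquiv.subgroupCongr hST).trans
    ((T : Subgroup K).equivMapOfInjective K.subtype K.subtype_injective).symm).trans e⟩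

theorem eq_two_of_dvd {q f : ℕ} (hq : 0 < q) (hf : 2 ≤ f) (hd : (f - 1) * q ∣ f * q) : f = 2 := by
  have h1 : f - 1 ∣ f := Nat.dvd_of_mul_dvd_mul_right hq hd
  have h2 : f - 1 ∣ 1 := by
    have := Nat.dvd_sub h1 (dvd_refl (f - 1))
    rwa [show f - (f - 1) = 1 by omega] at this
  have := Nat.le_of_dvd one_pos h2
  omega

theorem zassenhaus_of_strong (h : Ords G) (hns : ¬ Group.IsSolvable G) (h2 : Even (Nat.card G))
    {K : Subgroup G} (hK : Cfsg.IsStronglyEmbedded K) (hs : Group.IsSolvable K) :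
    Cfsg.IsZassenhausGroup G (G ⧸ K) := by
  classical
  haveI := hs
  haveI : Fact (Nat.Prime 2) := ⟨Nat.prime_two⟩
  haveI : Fintype (G ⧸ K) := Fintype.ofFinite _
  obtain ⟨a, haK, b, hbK, ha, hb, hab, hc⟩ := exists_two_invols hns h2 hK
  have hOK : Ords K := h.subgroup K
  -- the two-core of `K`
  obtain ⟨A, hAn, hA2, hA1⟩ := exists_two_normal hOK (a := ⟨a, haK⟩) (b := ⟨b, hbK⟩)
    (by rw [orderOf_mk]; exact ha) (by rw [orderOf_mk]; exact hb) (fun e => hab (congrArg Subtype.val e))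
    (Subtype.ext hc.eq)
  haveI := hAn
  have hu₀ : ∃ u : G, orderOf u = 2 ∧ u ∉ K := by
    by_contra hcon
    push Not at hcon
    obtain ⟨g, hg⟩ : ∃ g : G, g ∉ K := by
      by_contra hh; push Not at hh; exact hK.1 (eq_top_iff.2 fun x _ => hh x)
    obtain ⟨i, hi, hix⟩ := CfsgLib.StrongEmbed.exists_swap hK
      (x := (QuotientGroup.mk (1 : G) : G ⧸ K)) (y := g • (QuotientGroup.mk (1 : G) : G ⧸ K))
      (fun e => hg (CfsgLib.StrongEmbed.smul_mk_one_iff.1 e.symm))
    have := CfsgLib.StrongEmbed.smul_mk_one_iff.2 (hcon i hi)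
    rw [this] at hix
    exact hg (CfsgLib.StrongEmbed.smul_mk_one_iff.1 hix.symm)
  obtain ⟨u₀, hu₀, hu₀K⟩ := hu₀
  -- a maximal normal two-subgroup
  have hpc : IsPGroup 2 (Cfsg.pCore 2 K) ∧ (Cfsg.pCore 2 K).Normal ∧
      ∀ N : Subgroup K, N.Normal → IsPGroup 2 N → N ≤ Cfsg.pCore 2 K := by
    haveI := Fintype.ofFinite (Subgroup K)
    obtain ⟨M, hM, hmax⟩ := (Finset.univ.filter fun N : Subgroup K => N.Normal ∧ IsPGroup 2 N).exists_max_image
      (fun N => Nat.card N) ⟨⊥, by simp [IsPGroup.of_bot, normal_bot]⟩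
    simp only [Finset.mem_filter, Finset.mem_univ, true_and] at hM hmax
    have hle : ∀ N : Subgroup K, N.Normal → IsPGroup 2 N → N ≤ M := fun N hN hN2 => by
      haveI := hN; haveI := hM.1
      have h' := hmax (M ⊔ N) ⟨inferInstance, hM.2.to_sup_of_normal_left hN2⟩
      exact (eq_of_le_of_card_ge le_sup_left h').symm ▸ le_sup_right
    have heq : Cfsg.pCore 2 K = M :=
      le_antisymm (sSup_le fun N hN => hle N hN.1 hN.2) (le_sSup ⟨hM.1, hM.2⟩)
    rw [heq]
    exact ⟨hM.2, hM.1, hle⟩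
  set U := Cfsg.pCore 2 K
  obtain ⟨hU2, hUn, hUmax⟩ := hpc
  haveI := hUn
  have hU1 : U ≠ ⊥ := fun e => hA1 (le_bot_iff.1 (e ▸ hUmax A hAn hA2))
  have hinv : ∀ t : K, orderOf t = 2 → t ∈ U := by
    intro t ht
    obtain ⟨x, hx, hx2⟩ : ∃ x ∈ U, orderOf x = 2 := by
      obtain ⟨x, hx⟩ := exists_prime_orderOf_dvd_card' (G := U) 2 (by
        obtain ⟨n, hn⟩ := hU2.exists_card_eq
        rw [hn]; exact dvd_pow_self 2 fun e => hU1 (card_eq_one.1 (by rw [hn, e, pow_zero])))
      exact ⟨x, x.2, by rwa [orderOf_coe]⟩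
    obtain ⟨d, hd, hdx⟩ := (Cfsg.Agent.S1225.result K hK u₀ hu₀ hu₀K (x : G) (t : G)
      (by rw [orderOf_coe]; exact hx2) x.2 (by rw [orderOf_coe]; exact ht) t.2).1
    have : t = ⟨d, hd.1⟩ * x * ⟨d, hd.1⟩⁻¹ := Subtype.ext hdx.symm
    rw [this]
    exact hUn.conj_mem x hx _
  have hodd := odd_index hOK hU2 hUmax hinv
  -- the intersections with conjugates have prime order
  set q := U.index with hq
  have hDdvd : ∀ D : Subgroup G, D ≤ K → Odd (Nat.card D) → Nat.card D ∣ q := by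
    intro D hD hDo
    set D' := D.subgroupOf K with hD'
    have hc' : Nat.card D' = Nat.card D := Nat.card_congr (subgroupOfEquivOfLe hD).toEquiv
    obtain ⟨n, hn⟩ := hU2.exists_card_eq
    have hd : Nat.card D' ∣ Nat.card U * q := (card_mul_index U).symm ▸ card_subgroup_dvd_card D'
    refine (Nat.Coprime.dvd_of_dvd_mul_left ?_ (hc' ▸ hd) : Nat.card D ∣ q)
    rw [hn]
    exact Nat.Coprime.pow_right n (Nat.coprime_two_right.2 hDo)
  have hconjD : ∀ v : G, orderOf v = 2 → v ∉ K →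
      Nat.card (K ⊓ K.map (MulAut.conj v).toMonoidHom : Subgroup G) = q ∧ q.Prime := by
    intro v hv hvK
    set D := K ⊓ K.map (MulAut.conj v).toMonoidHom with hDv
    have hd : Nat.card D ∣ q := hDdvd D inf_le_left (hK.2.2 v hvK)
    obtain ⟨d, hdD, hda⟩ := (Cfsg.Agent.S1225.result K hK v hv hvK a b ha haK hb hbK).1
    have hne : Nat.card D ≠ 1 := fun e => by
      rw [card_eq_one] at e
      rw [← hDv, e, mem_bot] at hdD
      rw [hdD] at hda
      exact hab (by simpa using hda)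
    rcases index_one_or_prime hOK hU2 hU1 hodd with h1 | hp
    · rw [← hq] at h1; rw [h1] at hd; exact absurd (Nat.dvd_one.1 hd) hne
    · exact ⟨((Nat.dvd_prime hp).1 hd).resolve_left hne, hp⟩
  have hqp : q.Prime := (hconjD u₀ hu₀ hu₀K).2
  haveI := Fact.mk hqp
  have hq2 : q ≠ 2 := fun e => Nat.not_even_iff_odd.2 hodd (even_iff_two_dvd.2 (dvd_of_eq e.symm))
  set x₀ : G ⧸ K := QuotientGroup.mk (1 : G) with hx₀
  have hstab : ∀ g : G, g • x₀ = x₀ ↔ g ∈ K := fun g => CfsgLib.StrongEmbed.smul_mk_one_iff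
  have hmemconj : ∀ g x : G, x ∈ K.map (MulAut.conj g).toMonoidHom ↔ x • (g • x₀) = g • x₀ := by
    intro g x
    rw [← inv_smul_eq_iff, ← mul_smul, ← mul_smul, hstab]
    constructor
    · rintro ⟨k, hk, rfl⟩
      simpa [mul_assoc] using hk
    · intro hx
      exact ⟨_, hx, by simp [mul_assoc]⟩
  -- two-point stabilisers
  have hpair : ∀ y : G ⧸ K, y ≠ x₀ → Nat.card {g : G // g • x₀ = x₀ ∧ g • y = y} = q := by
    intro y hy
    obtain ⟨v, hv, hvy⟩ := CfsgLib.StrongEmbed.exists_swap hK hy.symm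
    have hvK : v ∉ K := fun hvK => hy (hvy ▸ (hstab v).2 hvK)
    rw [← (hconjD v hv hvK).1]
    refine Nat.card_congr (Equiv.subtypeEquivRight fun g => ?_)
    rw [mem_inf, ← hstab, hmemconj, hvy]
  -- the subgroup `D` and its fixed points
  set D := K ⊓ K.map (MulAut.conj u₀).toMonoidHom with hD
  have hDc : Nat.card D = q := (hconjD u₀ hu₀ hu₀K).1
  have hu2 : u₀ * u₀ = 1 := by rw [← pow_two, ← hu₀, pow_orderOf_eq_one]
  set y₀ := u₀ • x₀ with hy₀
  have hy₀x : y₀ ≠ x₀ := fun e => hu₀K ((hstab u₀).1 e)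
  have hmemD : ∀ g : G, g ∈ D ↔ g • x₀ = x₀ ∧ g • y₀ = y₀ := fun g => by
    rw [hD, mem_inf, ← hstab, hmemconj]
  set N := normalizer (D : Set G) with hN
  let F : Set (G ⧸ K) := {x | ∀ d ∈ D, d • x = x}
  have hxF : x₀ ∈ F := fun d hd => ((hmemD d).1 hd).1
  have hyF : y₀ ∈ F := fun d hd => ((hmemD d).1 hd).2
  have hNF : ∀ n ∈ N, ∀ x ∈ F, n • x ∈ F := fun n hn x hx d hd => by
    have hd' : n⁻¹ * d * n ∈ D := by simpa using (mem_normalizer_iff.1 (inv_mem hn) d).1 hd
    have := hx _ hd'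
    rw [mul_smul, mul_smul, inv_smul_eq_iff] at this
    exact this
  -- `N` meets `K` in `D`
  have hNK : ∀ n ∈ N, n ∈ K → n ∈ D := by
    have hDN : D ≤ N ⊓ K := le_inf le_normalizer inf_le_left
    have hodd' : Odd (Nat.card (N ⊓ K : Subgroup G)) := by
      by_contra hev
      rw [Nat.not_odd_iff_even, even_iff_two_dvd] at hev
      obtain ⟨v, hv⟩ := exists_prime_orderOf_dvd_card' 2 hev
      rw [← orderOf_coe] at hv
      obtain ⟨d, hd, hd1⟩ := (D.bot_or_exists_ne_one).resolve_left fun e => by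
        rw [e, card_bot] at hDc; exact hqp.one_lt.ne hDc
      set v' : K := ⟨v, (mem_inf.1 v.2).2⟩
      set d' : K := ⟨d, (mem_inf.1 hd).1⟩
      have hvU : v' ∈ U := hinv v' (by rw [orderOf_mk]; exact hv)
      have hm1 : v' * d' * v'⁻¹ * d'⁻¹ ∈ U := by
        rw [show v' * d' * v'⁻¹ * d'⁻¹ = v' * (d' * v'⁻¹ * d'⁻¹) by group]
        exact mul_mem hvU (hUn.conj_mem _ (inv_mem hvU) d')
      have hm2 : (v : G) * d * (v : G)⁻¹ * d⁻¹ ∈ D :=
        mul_mem ((mem_normalizer_iff.1 (mem_inf.1 v.2).1 d).1 hd) (inv_mem hd)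
      have h1 : (v : G) * d * (v : G)⁻¹ * d⁻¹ = 1 := by
        obtain ⟨n, hn⟩ := hU2 ⟨_, hm1⟩
        have h2 : ((v : G) * d * (v : G)⁻¹ * d⁻¹) ^ q = 1 := by
          rw [← hDc]
          exact orderOf_dvd_iff_pow_eq_one.1 (orderOf_dvd_natCard D hm2)
        have h3 : ((v : G) * d * (v : G)⁻¹ * d⁻¹) ^ 2 ^ n = 1 := by
          have := congrArg (fun z : U => ((z : K) : G)) hn
          simpa [v', d'] using this
        have h4 : orderOf ((v : G) * d * (v : G)⁻¹ * d⁻¹) ∣ Nat.gcd q (2 ^ n) :=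
          Nat.dvd_gcd (orderOf_dvd_of_pow_eq_one h2) (orderOf_dvd_of_pow_eq_one h3)
        rw [Nat.Coprime.gcd_eq_one (Nat.Coprime.pow_right n ((Nat.coprime_primes hqp Nat.prime_two).2 hq2)),
          Nat.dvd_one, orderOf_eq_one_iff] at h4
        exact h4
      refine hd1 (h.eq_one_of_commute Nat.prime_two hv (mul_inv_eq_iff_eq_mul.1 (mul_inv_eq_one.1 h1)) ?_)
      exact Nat.Coprime.coprime_dvd_left (hDc ▸ orderOf_dvd_natCard D hd)
        ((Nat.coprime_primes hqp Nat.prime_two).2 hq2)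
    have hle := Nat.le_of_dvd hqp.pos (hDdvd (N ⊓ K) inf_le_right hodd')
    intro n hn hnK
    exact (eq_of_le_of_card_ge hDN (by rw [hDc]; exact hle)).symm ▸ (mem_inf.2 ⟨hn, hnK⟩)
  -- `N` is transitive on `F`
  have hNtr : ∀ y ∈ F, ∃ n ∈ N, n • x₀ = y := by
    intro y hy
    obtain ⟨g, rfl⟩ := MulAction.exists_smul_eq G x₀ y
    set L := K.map (MulAut.conj g).toMonoidHom with hL
    have hDL : D ≤ L := fun d hd => (hmemconj g d).2 (hy d hd)
    set D₂ := D.map (MulAut.conj g).toMonoidHom with hD₂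
    have hD₂L : D₂ ≤ L := map_mono inf_le_left
    have hD₂c : Nat.card D₂ = q := by
      rw [hD₂, card_map_of_injective (MulAut.conj g).injective, hDc]
    have hLc : Nat.card L = Nat.card U * q := by
      rw [hL, card_map_of_injective (MulAut.conj g).injective, ← card_mul_index U]
    have hnd : ¬ q ∣ Nat.card U := by
      obtain ⟨n, hn⟩ := hU2.exists_card_eq
      rw [hn]
      exact fun hd => hq2 ((Nat.prime_dvd_prime_iff_eq hqp Nat.prime_two).1 (hqp.dvd_of_dvd_pow hd))
    have hsyl : ∀ E : Subgroup G, E ≤ L → Nat.card E = q →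
        Nat.card (E.subgroupOf L) = q ^ (Nat.card L).factorization q := by
      intro E hEL hE
      rw [Nat.card_congr (subgroupOfEquivOfLe hEL).toEquiv, hE, hLc,
        Nat.factorization_mul Nat.card_pos.ne' hqp.ne_zero, Finsupp.add_apply,
        Nat.factorization_eq_zero_of_not_dvd hnd, hqp.factorization_self, zero_add, pow_one]
    obtain ⟨l, hl⟩ := MulAction.exists_smul_eq L (Sylow.ofCard _ (hsyl D₂ hD₂L hD₂c))
      (Sylow.ofCard _ (hsyl D hDL hDc))
    have hl' : (D₂.subgroupOf L).map (MulAut.conj l).toMonoidHom = D.subgroupOf L := by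
      have := congrArg Sylow.toSubgroup hl
      rw [Sylow.coe_subgroup_smul, Subgroup.pointwise_smul_def] at this
      exact this
    have hlg : D.map (MulAut.conj ((l : G) * g)).toMonoidHom = D := by
      have h1 := congrArg (Subgroup.map L.subtype) hl'
      rw [map_subgroupOf_eq_of_le hDL, map_map] at h1
      have e : L.subtype.comp (MulAut.conj l).toMonoidHom = (MulAut.conj (l : G)).toMonoidHom.comp L.subtype := by
        ext z; simp
      rw [e, ← map_map, map_subgroupOf_eq_of_le hD₂L, hD₂, map_map] at h1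
      have e2 : (MulAut.conj (l : G)).toMonoidHom.comp (MulAut.conj g).toMonoidHom =
          (MulAut.conj ((l : G) * g)).toMonoidHom := by ext z; simp [mul_assoc]
      rwa [e2] at h1
    exact ⟨(l : G) * g, mem_normalizer_iff_map_conj_eq.2 hlg, by
      rw [mul_smul]; exact (hmemconj g l).1 l.2⟩
  -- counting
  have hNc : Nat.card N = Nat.card F * q := by
    have horb : MulAction.orbit N x₀ = F := by
      ext y
      constructor
      · rintro ⟨n, rfl⟩; exact hNF n n.2 x₀ hxF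
      · intro hy
        obtain ⟨n, hn, hny⟩ := hNtr y hy
        exact ⟨⟨n, hn⟩, hny⟩
    have h1 := Nat.card_congr (MulAction.orbitEquivQuotientStabilizer N x₀)
    rw [horb] at h1
    have h2 : Nat.card (MulAction.stabilizer N x₀) = q := by
      rw [← hDc]
      exact Nat.card_congr
        { toFun := fun n => ⟨(n : N).1, hNK _ (n : N).2 ((hstab _).1 n.2)⟩
          invFun := fun d => ⟨⟨d, (le_normalizer (H := D) d.2 : (d : G) ∈ N)⟩, ((hmemD d).1 d.2).1⟩
          left_inv := fun n => rfl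
          right_inv := fun d => rfl }
    rw [card_eq_card_quotient_mul_card_subgroup (MulAction.stabilizer N x₀), ← h1, h2]
  set C := centralizer (D : Set G) with hC
  have hCN : C ≤ N := centralizer_le_normalizer _
  obtain ⟨d₁, hd₁, hd₁1⟩ := (D.bot_or_exists_ne_one).resolve_left fun e => by
    rw [e, card_bot] at hDc; exact hqp.one_lt.ne hDc
  have hd₁o : orderOf d₁ = q :=
    ((Nat.dvd_prime hqp).1 (hDc ▸ orderOf_dvd_natCard D hd₁)).resolve_left
      fun e => hd₁1 (orderOf_eq_one_iff.1 e)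
  have hCq : IsPGroup q C := h.isPGroup_of_commute hqp hd₁o fun y hy => mem_centralizer_iff.1 hy d₁ hd₁
  have hu₀N : u₀ ∈ N := by
    refine mem_normalizer_iff_map_conj_eq.2 ?_
    have hs : (MulAut.conj u₀).toMonoidHom.comp (MulAut.conj u₀).toMonoidHom = MonoidHom.id G := by
      ext z
      simp only [MonoidHom.comp_apply, MulEquiv.coe_toMonoidHom, MulAut.conj_apply, MonoidHom.id_apply,
        inv_eq_of_mul_eq_one_right hu2]
      rw [show u₀ * (u₀ * z * u₀) * u₀ = (u₀ * u₀) * z * (u₀ * u₀) by group, hu2, one_mul, mul_one]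
    rw [hD, Subgroup.map_inf _ _ _ (MulAut.conj u₀).injective, map_map]
    rw [show ((MulAut.conj u₀ : G ≃* G) : G →* G).comp (MulAut.conj u₀).toMonoidHom = MonoidHom.id G from hs,
      map_id, inf_comm]
    rfl
  have hDq : IsPGroup q D := IsPGroup.of_card (n := 1) (by rw [hDc, pow_one])
  have hinvD : ∀ v ∈ N, orderOf v = 2 → ∀ d ∈ D, v * d * v⁻¹ = d⁻¹ := fun v hv ho =>
    h.inverts ho hqp hq2 hDq hv
  have hu₀C : ∀ c ∈ C, u₀ * c * u₀⁻¹ = c⁻¹ := by
    refine h.inverts hu₀ hqp hq2 hCq ?_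
    refine mem_normalizer_iff.2 fun c => ?_
    have hcc : ∀ c ∈ C, u₀ * c * u₀⁻¹ ∈ C := fun c hc => mem_centralizer_iff.2 fun d hd => by
      have hd' : u₀⁻¹ * d * u₀ ∈ D := by simpa using (mem_normalizer_iff.1 (inv_mem hu₀N) d).1 hd
      have := mem_centralizer_iff.1 hc _ hd'
      calc d * (u₀ * c * u₀⁻¹) = u₀ * ((u₀⁻¹ * d * u₀) * c) * u₀⁻¹ := by group
        _ = u₀ * (c * (u₀⁻¹ * d * u₀)) * u₀⁻¹ := by rw [this]
        _ = u₀ * c * u₀⁻¹ * d := by group
    refine ⟨hcc c, fun hc => ?_⟩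
    have := hcc _ hc
    rwa [show u₀ * (u₀ * c * u₀⁻¹) * u₀⁻¹ = (u₀ * u₀) * c * (u₀ * u₀)⁻¹ by group, hu2, one_mul, inv_one,
      mul_one] at this
  let I := {v : G // v ∈ N ∧ orderOf v = 2}
  have hIC : Nat.card I = Nat.card C := by
    refine (Nat.card_congr (Equiv.ofBijective (fun c : C => (⟨u₀ * c, mul_mem hu₀N (hCN c.2), ?_⟩ : I))
      ⟨fun c c' e => Subtype.ext (mul_left_cancel (congrArg Subtype.val e)), fun v => ?_⟩)).symm
    · have hsq : u₀ * (c : G) * (u₀ * (c : G)) = 1 := by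
        have := hu₀C c c.2
        rw [inv_eq_of_mul_eq_one_right hu2] at this
        rw [show u₀ * (c : G) * (u₀ * (c : G)) = u₀ * (c : G) * u₀ * (c : G) by group, this, inv_mul_cancel]
      refine orderOf_eq_prime (by rw [pow_two]; exact hsq) fun e => ?_
      have hcu : (c : G) = u₀ := (mul_eq_one_iff_inv_eq.1 e).symm.trans (inv_eq_of_mul_eq_one_right hu2)
      obtain ⟨k, hk⟩ := hCq c
      have := orderOf_dvd_of_pow_eq_one (congrArg Subtype.val hk : (c : G) ^ q ^ k = 1)
      rw [hcu, hu₀] at this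
      exact hq2 ((Nat.prime_dvd_prime_iff_eq Nat.prime_two hqp).1 (Nat.prime_two.dvd_of_dvd_pow this)).symm
    · refine ⟨⟨u₀ * v.1, mem_centralizer_iff.2 fun d hd => ?_⟩, Subtype.ext (by simp [← mul_assoc, hu2])⟩
      have h1 := hinvD v.1 v.2.1 v.2.2 d hd
      have h2 := hinvD u₀ hu₀N hu₀ d⁻¹ (inv_mem hd)
      rw [inv_inv] at h2
      calc d * (u₀ * v.1) = u₀ * d⁻¹ * u₀⁻¹ * (u₀ * v.1) := by rw [h2]
        _ = u₀ * (d⁻¹ * v.1) := by group
        _ = u₀ * (v.1 * d * v.1⁻¹ * v.1) := by rw [h1]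
        _ = u₀ * v.1 * d := by group
  -- involutions of `N` and the points of `F` other than `x₀`
  have hIK : ∀ v : I, v.1 ∉ K := fun v hvK => by
    have hvD := hNK v.1 v.2.1 hvK
    have := hDc ▸ orderOf_dvd_natCard D hvD
    rw [v.2.2] at this
    exact hq2 ((Nat.prime_dvd_prime_iff_eq Nat.prime_two hqp).1 this).symm
  let F' := {x : G ⧸ K // x ∈ F ∧ x ≠ x₀}
  let π : I → F' := fun v => ⟨v.1 • x₀, hNF _ v.2.1 _ hxF, fun e => hIK v ((hstab _).1 e)⟩
  have hcardinv : Nat.card {t : G // orderOf t = 2 ∧ t ∈ K} = q := by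
    have hfib : Nat.card {i : G // orderOf i = 2 ∧ i • x₀ = y₀} =
        Nat.card {t : G // orderOf t = 2 ∧ t ∈ K} := CfsgLib.StrongEmbed.card_swap hK hy₀x.symm
    -- the orbit of `a` under `D`
    let f : D → {t : G // orderOf t = 2 ∧ t ∈ K} := fun d =>
      ⟨d * a * (d : G)⁻¹, by rw [CfsgLib.Invol.orderOf_conj_eq, ha],
        mul_mem (mul_mem (mem_inf.1 d.2).1 haK) (inv_mem (mem_inf.1 d.2).1)⟩
    have hf : Function.Bijective f := by
      constructor
      · intro d d' e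
        have e' : (d : G) * a * (d : G)⁻¹ = d' * a * (d' : G)⁻¹ := congrArg Subtype.val e
        have hcm : Commute a ((d : G)⁻¹ * d') := by
          show a * ((d : G)⁻¹ * d') = (d : G)⁻¹ * d' * a
          calc a * ((d : G)⁻¹ * d') = (d : G)⁻¹ * ((d : G) * a * (d : G)⁻¹) * d' := by group
            _ = (d : G)⁻¹ * (d' * a * (d' : G)⁻¹) * d' := by rw [e']
            _ = _ := by group
        have := h.eq_one_of_commute Nat.prime_two ha hcm (Nat.Coprime.coprime_dvd_left
          (hDc ▸ orderOf_dvd_natCard D (mul_mem (inv_mem d.2) d'.2))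
          ((Nat.coprime_primes hqp Nat.prime_two).2 hq2))
        exact Subtype.ext (inv_mul_eq_one.1 this)
      · intro t
        obtain ⟨d, hd, hdt⟩ := (Cfsg.Agent.S1225.result K hK u₀ hu₀ hu₀K a t.1 ha haK t.2.1 t.2.2).1
        exact ⟨⟨d, hd⟩, Subtype.ext hdt⟩
    rw [← Nat.card_congr (Equiv.ofBijective f hf), hDc]
  have hfibre : ∀ y : F', Nat.card {v : I // π v = y} = q := by
    intro y
    rw [← hcardinv, ← CfsgLib.StrongEmbed.card_swap hK (x := x₀) (y := y.1) y.2.2.symm]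
    refine Nat.card_congr
      { toFun := fun v => ⟨v.1.1, v.1.2.2, congrArg Subtype.val v.2⟩
        invFun := fun i => ⟨⟨i.1, ?_, i.2.1⟩, Subtype.ext i.2.2⟩
        left_inv := fun v => rfl
        right_inv := fun i => rfl }
    obtain ⟨hi, hiy⟩ := i.2
    have hi2 : i.1 * i.1 = 1 := by
      have := pow_orderOf_eq_one i.1
      rwa [hi, pow_two] at this
    have hiy' : i.1 • y.1 = x₀ := by
      have h' := congrArg (fun z => i.1 • z) hiy.symm
      simp only [← mul_smul, hi2, one_smul] at h'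
      exact h'
    let S2 : Subgroup G :=
      MulAction.stabilizer G x₀ ⊓ MulAction.stabilizer G y.1
    have hDS : D ≤ S2 := fun d hd => mem_inf.2 ⟨hxF d hd, y.2.1 d hd⟩
    have hS2 : Nat.card S2 = q := by
      rw [← hpair y.1 y.2.2]
      exact Nat.card_congr (Equiv.subtypeEquivRight fun g => by
        simp [S2, mem_inf, MulAction.mem_stabilizer_iff])
    have hDeq : D = S2 := eq_of_le_of_card_ge hDS (by rw [hS2, hDc])
    have hic : ∀ d ∈ D, i.1 * d * i.1⁻¹ ∈ D := fun d hd => by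
      rw [hDeq] at hd ⊢
      obtain ⟨h1, h2⟩ := mem_inf.1 hd
      rw [MulAction.mem_stabilizer_iff] at h1 h2
      refine mem_inf.2 ⟨?_, ?_⟩ <;>
        rw [MulAction.mem_stabilizer_iff, inv_eq_of_mul_eq_one_right hi2, mul_smul, mul_smul]
      · rw [hiy, h2, hiy']
      · rw [hiy', h1, hiy]
    refine mem_normalizer_iff.2 fun d => ⟨hic d, fun hd => ?_⟩
    have := hic _ hd
    rwa [show i.1 * (i.1 * d * i.1⁻¹) * i.1⁻¹ = (i.1 * i.1) * d * (i.1 * i.1)⁻¹ by group, hi2, one_mul,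
      inv_one, mul_one] at this
  have hIcount : Nat.card I = Nat.card F' * q := by
    haveI : Fintype F' := Fintype.ofFinite _
    rw [← Nat.card_congr (Equiv.sigmaFiberEquiv π), Nat.card_sigma, Finset.sum_congr rfl (fun y _ => hfibre y),
      Finset.sum_const, Finset.card_univ, Nat.card_eq_fintype_card, smul_eq_mul]
  have hF' : Nat.card F' = Nat.card F - 1 := by
    have e : Nat.card F' = (F \ {x₀}).ncard := by
      rw [← Nat.card_coe_set_eq]
      exact Nat.card_congr (Equiv.subtypeEquivRight fun x => by simp)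
    rw [e, Set.ncard_diff_singleton_of_mem hxF, Nat.card_coe_set_eq]
  have hFge : 2 ≤ Nat.card F := by
    rw [Nat.card_coe_set_eq, ← Set.ncard_pair hy₀x.symm]
    exact Set.ncard_le_ncard (Set.insert_subset hxF (Set.singleton_subset_iff.2 hyF))
  have hF2 : Nat.card F = 2 := by
    refine eq_two_of_dvd hqp.pos hFge ?_
    rw [← hF', ← hIcount, hIC, ← hNc]
    exact card_dvd_of_le hCN
  have hFeq : ∀ z ∈ F, z = x₀ ∨ z = y₀ := by
    intro z hz
    have hsub : ({x₀, y₀} : Set (G ⧸ K)) = F := Set.eq_of_subset_of_ncard_le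
      (Set.insert_subset hxF (Set.singleton_subset_iff.2 hyF))
      (by rw [Set.ncard_pair hy₀x.symm, ← Nat.card_coe_set_eq, hF2])
    rw [← hsub] at hz
    simpa using hz
  -- double transitivity
  have hto : ∀ y : G ⧸ K, y ≠ x₀ → ∃ k ∈ K, k • y = y₀ := by
    intro y hy
    let S2 : Subgroup G := MulAction.stabilizer G x₀ ⊓ MulAction.stabilizer G y
    have hS2 : Nat.card S2 = q := by
      rw [← hpair y hy]
      exact Nat.card_congr (Equiv.subtypeEquivRight fun g => by
        simp [S2, mem_inf, MulAction.mem_stabilizer_iff])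
    have hS2K : S2 ≤ K := fun g hg => (hstab g).1 (mem_inf.1 hg).1
    have hnd : ¬ q ∣ Nat.card U := by
      obtain ⟨n, hn⟩ := hU2.exists_card_eq
      rw [hn]
      exact fun hd => hq2 ((Nat.prime_dvd_prime_iff_eq hqp Nat.prime_two).1 (hqp.dvd_of_dvd_pow hd))
    have hsyl : ∀ E : Subgroup G, E ≤ K → Nat.card E = q →
        Nat.card (E.subgroupOf K) = q ^ (Nat.card K).factorization q := by
      intro E hEL hE
      rw [Nat.card_congr (subgroupOfEquivOfLe hEL).toEquiv, hE, ← card_mul_index U, ← hq,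
        Nat.factorization_mul Nat.card_pos.ne' hqp.ne_zero, Finsupp.add_apply,
        Nat.factorization_eq_zero_of_not_dvd hnd, hqp.factorization_self, zero_add, pow_one]
    obtain ⟨l, hl⟩ := MulAction.exists_smul_eq K (Sylow.ofCard _ (hsyl S2 hS2K hS2))
      (Sylow.ofCard _ (hsyl D inf_le_left hDc))
    have hl' : (S2.subgroupOf K).map (MulAut.conj l).toMonoidHom = D.subgroupOf K := by
      have := congrArg Sylow.toSubgroup hl
      rw [Sylow.coe_subgroup_smul, Subgroup.pointwise_smul_def] at this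
      exact this
    have hF : (l : G) • y ∈ F := by
      intro d hd
      have hm : (⟨d, (mem_inf.1 hd).1⟩ : K) ∈ D.subgroupOf K := hd
      rw [← hl'] at hm
      obtain ⟨s, hs, hse⟩ := hm
      have e : (l : G) * (s : G) * (l : G)⁻¹ = d := congrArg Subtype.val hse
      rw [← e, mul_smul, mul_smul, inv_smul_smul,
        MulAction.mem_stabilizer_iff.1 (mem_inf.1 (mem_subgroupOf.1 hs)).2]
    refine ⟨l, l.2, (hFeq _ hF).resolve_left fun e => hy ?_⟩
    rw [← inv_smul_smul (l : G) y, e, (hstab _).2 (inv_mem l.2)]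
  have htwo : ∀ a' b' : G ⧸ K, a' ≠ b' → ∃ g : G, g • a' = x₀ ∧ g • b' = y₀ := by
    intro a' b' hne
    obtain ⟨g, hg⟩ := MulAction.exists_smul_eq G a' x₀
    obtain ⟨k, hk, hky⟩ := hto (g • b') fun e => hne (smul_left_cancel g (hg.trans e.symm))
    exact ⟨k * g, by rw [mul_smul, hg, (hstab k).2 hk], by rw [mul_smul, hky]⟩
  have hker : ∀ g : G, (∀ x : G ⧸ K, g • x = x) → g = 1 := by
    intro g hg
    rcases IsSimpleGroup.eq_bot_or_eq_top_of_normal (MulAction.toPermHom G (G ⧸ K)).ker inferInstance with e | e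
    · have : g ∈ (MulAction.toPermHom G (G ⧸ K)).ker := Equiv.ext hg
      rwa [e, mem_bot] at this
    · exfalso
      have hm : u₀ ∈ (MulAction.toPermHom G (G ⧸ K)).ker := e ▸ mem_top u₀
      exact hy₀x (Equiv.congr_fun hm x₀)
  refine ⟨⟨fun {g g'} hgg => ?_⟩, MulAction.is_two_pretransitive_iff.2 ?_, ?_, ?_, ?_⟩
  · exact inv_mul_eq_one.1 (hker _ fun x => by rw [mul_smul, ← hgg x, inv_smul_smul]) 
  · intro a' b' c' d' hab' hcd'
    obtain ⟨g, hg1, hg2⟩ := htwo a' b' hab'
    obtain ⟨k, hk1, hk2⟩ := htwo c' d' hcd'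
    exact ⟨k⁻¹ * g, by rw [mul_smul, hg1, ← hk1, inv_smul_smul], by rw [mul_smul, hg2, ← hk2, inv_smul_smul]⟩
  · intro g a' b' c' hab' hbc' hac' hga hgb hgc
    by_contra hg1
    obtain ⟨k, hk1, hk2⟩ := htwo a' b' hab'
    set g' := k * g * k⁻¹ with hg'
    have hfix : ∀ z : G ⧸ K, g • z = z → g' • (k • z) = k • z := fun z hz => by
      rw [hg', mul_smul, mul_smul, inv_smul_smul, hz]
    have hgD : g' ∈ D := (hmemD g').2 ⟨hk1 ▸ hfix a' hga, hk2 ▸ hfix b' hgb⟩
    have hg'1 : g' ≠ 1 := fun e => hg1 (conj_eq_one_iff.1 e)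
    have hzp : zpowers g' = D := eq_of_le_of_card_ge (zpowers_le.2 hgD) (by
      rw [hDc, Nat.card_zpowers]
      exact (((Nat.dvd_prime hqp).1 (hDc ▸ orderOf_dvd_natCard D hgD)).resolve_left
        fun e => hg'1 (orderOf_eq_one_iff.1 e)).ge)
    have hcF : k • c' ∈ F := fun d hd => by
      rw [← hzp] at hd
      have : zpowers g' ≤ MulAction.stabilizer G (k • c') :=
        zpowers_le.2 (MulAction.mem_stabilizer_iff.2 (hfix c' hgc))
      exact this hd
    rcases hFeq _ hcF with e | e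
    · exact hac' (smul_left_cancel k (hk1.trans e.symm))
    · exact hbc' (smul_left_cancel k (hk2.trans e.symm))
  · exact ⟨d₁, hd₁1, x₀, y₀, hy₀x.symm, ((hmemD d₁).1 hd₁).1, ((hmemD d₁).1 hd₁).2⟩
  · intro M hM hMt
    rcases IsSimpleGroup.eq_bot_or_eq_top_of_normal M hM with e | e
    · exfalso
      obtain ⟨m, hm⟩ := hMt.exists_smul_eq x₀ y₀
      have h1 : (m : G) = 1 := mem_bot.1 (e ▸ m.2)
      rw [Subgroup.smul_def, h1, one_smul] at hm
      exact hy₀x hm.symm
    · refine ⟨x₀, fun hb => hd₁1 ?_⟩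
      have hm : (⟨d₁, e ▸ mem_top d₁⟩ : M) ∈ MulAction.stabilizer M x₀ := ((hmemD d₁).1 hd₁).1
      replace hm := mem_bot.1 (hb ▸ hm)
      exact congrArg Subtype.val hm

theorem isSeven_of_strong (h : Ords G) (hns : ¬ Group.IsSolvable G) (h2 : Even (Nat.card G))
    {K : Subgroup G} (hK : Cfsg.IsStronglyEmbedded K) (hsub : Group.IsSolvable K ∨ IsSeven K) : IsSeven G := by
  rcases hsub with hs | h7
  · rcases Cfsg.Agent.S0340.result (zassenhaus_of_strong h hns h2 hK hs) with ⟨F, _, _, ⟨e⟩⟩ | hsz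
    · exact isSeven_of_psl h hns e
    · exact absurd hsz (not_isSuzuki h)
  · exact isSeven_of_strong_seven h hns hK h7

end CfsgLib.RecogSeven
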